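import Cfsg.Agent.TAB.F24.G.Wd_m3
import Cfsg.Agent.TAB.Eng.Sep_m3
import Cfsg.Agent.TAB.Sm1.Fin_m3
import Cfsg.Agent.Prune
set_option linter.all false
prune_inst 0x7f00000000000000000000000000000000000000000000000000000000000000000000000000000000000000000000000000000000000000000000000000000000000000000000000000000000000000003fffffffffffffffffffffffffffbeffbdffffffff
open scoped Cfsg.Agent.FastGrp

/-- decoders of the packed data (elaboration time only) -/
private noncomputable def pk61d (b S i : Nat) : Nat := Nat.mod (Nat.shiftRight S (Nat.mul b i)) (Nat.shiftLeft (nat_lit 1) b)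
private noncomputable def pk61c {α : Type} (t : Nat) (a : α) (f : Nat → α) : α := Nat.rec a (fun k _ => f k) t
private noncomputable def pk61f {α : Type} (t : Nat) (f : Nat → α) : α := Nat.rec (f Nat.zero) (fun k _ => f (Nat.succ k)) t
private noncomputable def pk61z (t : Nat) : Int := pk61f t fun t =>
  pk61c (Nat.mod t (nat_lit 2)) (Int.ofNat (Nat.div t (nat_lit 2))) fun _ => Int.negSucc (Nat.div t (nat_lit 2))
private noncomputable def pk61l {α : Type} (f : Nat → α) (s e : Nat) (tl : List α) : List α :=
  pk61f e fun e => Nat.rec tl (fun k ih => List.cons (pk61f (Nat.sub e (Nat.succ k)) f) ih) (Nat.sub e s)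
private noncomputable def lq265f5a0dab81 {T : Sort _} (f :
    ((List Int) → (List Int)) →
    (type_of% @_root_.List.cons.{0}) →
    (type_of% @_root_.Int.ofNat) →
    (type_of% @_root_.List.nil.{0}) →
    (type_of% @_root_.Int.negSucc) →
    ((List (List Int)) → (List (List Int))) →
    ((List Nat) → (List Nat)) →
    ((List (List (Prod Nat Int))) → (List (List (Prod Nat Int)))) →
    (type_of% @_root_.Prod.mk.{0, 0}) → T) : T :=
  f (fun x => x) (@_root_.List.cons.{0}) (@_root_.Int.ofNat) (@_root_.List.nil.{0}) (@_root_.Int.negSucc) (fun x => x) (fun x => x) (fun x => x) (@_root_.Prod.mk.{0, 0})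

/-!
# `Fi₂₃` : the rational character table (helper12, TAB; generated by `notes/TAB/F23/gen.py.txt`)
-/

set_option autoImplicit false
set_option maxRecDepth 100000

namespace Cfsg.Agent.TAB.F23

open Cfsg Cfsg.Agent.TAB.Eng Cfsg.Agent.TAB.Use Cfsg.Agent.TAB.Glue

/-- a row -/
def r0 : List ℤ :=
  (by
  refine (?fq9001 : ((pk61l (fun i1 => (pk61z (nat_lit 2))) (nat_lit 0) (nat_lit 92) List.nil) : List ℤ)
    = ?xq9001 → (List ℤ)) ?hq9001; (case hq9001 => (set_option maxRecDepth 1000000 in set_option simprocs false in conv => lhs; reduce; dsimp only)); intro _; exact ?xq9001 : List ℤ)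

/-- a row -/
def r1 : List ℤ :=
  (by
  refine (?fq9002 : ((pk61l (fun i1 => (pk61z (pk61d (nat_lit 11) 
    (nat_lit 0x1800c01001002000000010000000080100000400801000008010010040080080100c0180000100000000000004020010020080140300a014018010020020040080400000c000020040180300100200408001008010020040140780f01c01401402801008028060040140040280e018070060030021a81a0011382700e61c) i1))) (nat_lit 0) (nat_lit 92) List.nil) : List ℤ)
    = ?xq9002 → (List ℤ)) ?hq9002; (case hq9002 => (set_option maxRecDepth 1000000 in set_option simprocs false in conv => lhs; reduce; dsimp only)); intro _; exact ?xq9002 : List ℤ)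

/-- a row -/
def r2 : List ℤ :=
  (by
  refine (?fq9003 : ((pk61l (fun i1 => (pk61z (pk61d (nat_lit 13) 
    (nat_lit 0xe0411dc31009c03881980c6037014006802a0130070034018009004001800a0040018008002000) (pk61d (nat_lit 5) 
    (nat_lit 0x700200842100c0000800000622844218c431084010c800058a08d02090810884221841294a9300073c46d5a163421625890e83ce7a4e45b54f7) i1)))) (nat_lit 0) (nat_lit 92) List.nil) : List ℤ)
    = ?xq9003 → (List ℤ)) ?hq9003; (case hq9003 => (set_option maxRecDepth 1000000 in set_option simprocs false in conv => lhs; reduce; dsimp only)); intro _; exact ?xq9003 : List ℤ)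

/-- a row -/
def r3 : List ℤ :=
  (by
  refine (?fq9004 : ((pk61l (fun i1 => (pk61z (pk61d (nat_lit 14) 
    (nat_lit 0x9ed873605481360148049011004000d8028009c0160048010003800d002800900200070018004000c0020004000) (pk61d (nat_lit 5) 
    (nat_lit 0x304200804211422000210044220024084812040108422001a4308e30a52401c6210c0358c6b104251554634a0a230864852c8b908bbe6bc5a99) i1)))) (nat_lit 0) (nat_lit 92) List.nil) : List ℤ)
    = ?xq9004 → (List ℤ)) ?hq9004; (case hq9004 => (set_option maxRecDepth 1000000 in set_option simprocs false in conv => lhs; reduce; dsimp only)); intro _; exact ?xq9004 : List ℤ)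

/-- a row -/
def r4 : List ℤ :=
  (by
  refine (?fq9005 : ((pk61l (fun i1 => (pk61z (pk61d (nat_lit 16) 
    (nat_lit 0xc99c1263039c0246016e0096006300530051004e003c00390032002d002a001800130011000e000c000b0009000800070006000500040003000200010000) (pk61d (nat_lit 5) 
    (nat_lit 0x8884200020084000844200002180621186200c0001860119a630529318c62882201c80519e600c6445ab29a4cc4a4c26092bbd1c3d6f30ef31e) i1)))) (nat_lit 0) (nat_lit 92) List.nil) : List ℤ)
    = ?xq9005 → (List ℤ)) ?hq9005; (case hq9005 => (set_option maxRecDepth 1000000 in set_option simprocs false in conv => lhs; reduce; dsimp only)); intro _; exact ?xq9005 : List ℤ)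

/-- a row -/
def r5 : List ℤ :=
  (by
  refine (?fq9006 : ((pk61l (fun i1 => (pk61z (pk61d (nat_lit 16) 
    (nat_lit 0xf1501ad004d002be021c015000de00d80070003e003c00360030002c001e001a0018001600120010000e000c0008000600040003000200010000) (pk61d (nat_lit 5) 
    (nat_lit 0x908200042010800000420800210400288a510020188800116739484294a021001020450014a018c035a72949ee61cc7294ada4209ce2b1deafc) i1)))) (nat_lit 0) (nat_lit 92) List.nil) : List ℤ)
    = ?xq9006 → (List ℤ)) ?hq9006; (case hq9006 => (set_option maxRecDepth 1000000 in set_option simprocs false in conv => lhs; reduce; dsimp only)); intro _; exact ?xq9006 : List ℤ)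

/-- a row -/
def r6 : List ℤ :=
  (by
  refine (?fq9007 : ((pk61l (fun i1 => (pk61z (pk61d (nat_lit 17) 
    (nat_lit 0x70000800020000000100000000000000000800080004000000000000c00000000000000004000400010001000040002000100018000c0006000400018000800000000000000014000200020000000000018000300078000c0010000300010000c0006000200030002400040002000100004000400060003000180016000b0003000000000000800050011000360031000f8009c007e000400050001c00340001000b00004001c002a0024001a000100008004d8077c029400060784024200111dc88) i1))) (nat_lit 0) (nat_lit 92) List.nil) : List ℤ)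
    = ?xq9007 → (List ℤ)) ?hq9007; (case hq9007 => (set_option maxRecDepth 1000000 in set_option simprocs false in conv => lhs; reduce; dsimp only)); intro _; exact ?xq9007 : List ℤ)

/-- a row -/
def r7 : List ℤ :=
  (by
  refine (?fq9008 : ((pk61l (fun i1 => (pk61z (pk61d (nat_lit 18) 
    (nat_lit 0xd07b8532e02220062e009a801ee003a800b600138004a000e0002500090001e00068001800058001400048001000038000d0002000060001400040000c0002000040000) (pk61d (nat_lit 5) 
    (nat_lit 0x88c000080000c000040400420108e2284c208001210000086529042301c038c8209445718c6018210014ca5e533bd4312568b41a9de5d5e6b1d) i1)))) (nat_lit 0) (nat_lit 92) List.nil) : List ℤ)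
    = ?xq9008 → (List ℤ)) ?hq9008; (case hq9008 => (set_option maxRecDepth 1000000 in set_option simprocs false in conv => lhs; reduce; dsimp only)); intro _; exact ?xq9008 : List ℤ)

/-- a row -/
def r8 : List ℤ :=
  (by
  refine (?fq9009 : ((pk61l (fun i1 => (pk61z (pk61d (nat_lit 18) 
    (nat_lit 0xda6905b9b02768076400908011d0034c008d00170005b000f4003300098002200070001b0006800140004c000f00034000c0002800090002000070001800040000c0002000040000) (pk61d (nat_lit 5) 
    (nat_lit 0xa0420104410882200841000020882118d04108001082202c2211442389e330c03004419884e10c8316051ae8496c9c431182cb950eeef7f72df) i1)))) (nat_lit 0) (nat_lit 92) List.nil) : List ℤ)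
    = ?xq9009 → (List ℤ)) ?hq9009; (case hq9009 => (set_option maxRecDepth 1000000 in set_option simprocs false in conv => lhs; reduce; dsimp only)); intro _; exact ?xq9009 : List ℤ)

/-- a row -/
def r9 : List ℤ :=
  (by
  refine (?fq9010 : ((pk61l (fun i1 => (pk61z (pk61d (nat_lit 20) 
    (nat_lit 0x8606401564008a6002bd00264001b00009b000840008200036000350003400028000240001d00016000110000e0000c0000b0000a0000800006000050000400003000020000100000) (pk61d (nat_lit 5) 
    (nat_lit 0x490200000200040008210042108800284052000011c22018a632021294a001081094c2001ec0108343a95319ae04e0a314cb4d624ceaf2b6f1c) i1)))) (nat_lit 0) (nat_lit 92) List.nil) : List ℤ)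
    = ?xq9010 → (List ℤ)) ?hq9010; (case hq9010 => (set_option maxRecDepth 1000000 in set_option simprocs false in conv => lhs; reduce; dsimp only)); intro _; exact ?xq9010 : List ℤ)

/-- a row -/
def r10 : List ℤ :=
  (by
  refine (?fq9011 : ((pk61l (fun i1 => (pk61z (pk61d (nat_lit 20) 
    (nat_lit 0x8881a0271a0111a0087e001f4001e50016b00134000940007a0007800038000310002a0002700021000200001e000170001500014000110000e0000c0000b0000a000080000700006000050000400003000020000100000) (pk61d (nat_lit 6) 
    (nat_lit 0x5c20000800800410020020000000000811802040c01c20010060030062cc3031860c30c30000c00090453034830851422db69845358a28d1102c03915593c571f794860762) i1)))) (nat_lit 0) (nat_lit 92) List.nil) : List ℤ)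
    = ?xq9011 → (List ℤ)) ?hq9011; (case hq9011 => (set_option maxRecDepth 1000000 in set_option simprocs false in conv => lhs; reduce; dsimp only)); intro _; exact ?xq9011 : List ℤ)

/-- a row -/
def r11 : List ℤ :=
  (by
  refine (?fq9012 : ((pk61l (fun i1 => (pk61z (pk61d (nat_lit 21) 
    (nat_lit 0x5be1182eff2019b400483000bec003f6000d100054800230000c8000460001e0000d0000620002e0001300008000038000160000a80004c000160000a000038000180000a00004000018000080000200000) (pk61d (nat_lit 5) 
    (nat_lit 0x5800208000000011000400000000211806400801000001240421c63391a12882300000820e70982605a68ae524648c83a9c0c322fe6af5eee9e) i1)))) (nat_lit 0) (nat_lit 92) List.nil) : List ℤ)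
    = ?xq9012 → (List ℤ)) ?hq9012; (case hq9012 => (set_option maxRecDepth 1000000 in set_option simprocs false in conv => lhs; reduce; dsimp only)); intro _; exact ?xq9012 : List ℤ)

/-- a row -/
def r12 : List ℤ :=
  (by
  refine (?fq9013 : ((pk61l (fun i1 => (pk61z (pk61d (nat_lit 21) 
    (nat_lit 0xc0b7004307c04fc0007ec0036b800ed0006a60015f0008f800280000d600054000268001200008c00038000198000c0000400001f0000b80005000026000120000600002c0001400008000038000180000a00004000018000080000200000) (pk61d (nat_lit 6) 
    (nat_lit 0x6010801020020410400000000000010420000031800800400410820084cd1c31c40441040c40c10090423cb14b00000025d4d959250b28038a30515571a45081f7978a16e3) i1)))) (nat_lit 0) (nat_lit 92) List.nil) : List ℤ)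
    = ?xq9013 → (List ℤ)) ?hq9013; (case hq9013 => (set_option maxRecDepth 1000000 in set_option simprocs false in conv => lhs; reduce; dsimp only)); intro _; exact ?xq9013 : List ℤ)

/-- a row -/
def r13 : List ℤ :=
  (by
  refine (?fq9014 : ((pk61l (fun i1 => (pk61z (pk61d (nat_lit 21) 
    (nat_lit 0xc67590562c8049640103e002a2800c780056400252000d90001c8000d4000650001a8000c80004c00024000110000780003a0001c000090000440001a0000a0000480001c0000c00005000020000080000200000) (pk61d (nat_lit 5) 
    (nat_lit 0x68401008000840008842000001800000c80080021840008a2521d01214a4120410186000150008420682da5aae5b5eb290acbda49e6f13f773f) i1)))) (nat_lit 0) (nat_lit 92) List.nil) : List ℤ)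
    = ?xq9014 → (List ℤ)) ?hq9014; (case hq9014 => (set_option maxRecDepth 1000000 in set_option simprocs false in conv => lhs; reduce; dsimp only)); intro _; exact ?xq9014 : List ℤ)

/-- a row -/
def r14 : List ℤ :=
  (by
  refine (?fq9015 : ((pk61l (fun i1 => (pk61z (pk61d (nat_lit 22) 
    (nat_lit 0xccc270293230087700209a000c340023a0006940016300056c00052000134000440000f40003a0000c40002e0000940001e000070000130000440000d0000300000a000024000060000140000400000c0000200000400000) (pk61d (nat_lit 5) 
    (nat_lit 0x8084008040084400044100002104210848120400018420156151d010a90830441020257152e28c8416e71566c87c9015210ebb28de5755f771f) i1)))) (nat_lit 0) (nat_lit 92) List.nil) : List ℤ)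
    = ?xq9015 → (List ℤ)) ?hq9015; (case hq9015 => (set_option maxRecDepth 1000000 in set_option simprocs false in conv => lhs; reduce; dsimp only)); intro _; exact ?xq9015 : List ℤ)

/-- a row -/
def r15 : List ℤ :=
  (by
  refine (?fq9016 : ((pk61l (fun i1 => (pk61z (pk61d (nat_lit 22) 
    (nat_lit 0xee440005aff01140000e6f00221c004f800099c001000001fc000540000bc0002c0000800001f0000780001800005c00010000030000070000140000400000c0000200000400000) (pk61d (nat_lit 5) 
    (nat_lit 0x6800008042210000000000820000211806400c0010c030000c40000218c6000000908359529000003cd51435e633148411ae04800ada90c5e59) i1)))) (nat_lit 0) (nat_lit 92) List.nil) : List ℤ)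
    = ?xq9016 → (List ℤ)) ?hq9016; (case hq9016 => (set_option maxRecDepth 1000000 in set_option simprocs false in conv => lhs; reduce; dsimp only)); intro _; exact ?xq9016 : List ℤ)

/-- a row -/
def r16 : List ℤ :=
  (by
  refine (?fq9017 : ((pk61l (fun i1 => (pk61z (pk61d (nat_lit 23) 
    (nat_lit 0x111034014f2800205000308c002bf0003978003660004400003c0000660000ac0001080001700002780003a0000720000c00001500002800003c0000640000b00001400002000003c0000600000b00000e0000180000280000400000600000800000800000) (pk61d (nat_lit 6) 
    (nat_lit 0x5c00800000400040810000410000010000c21410021000001040810083c92411041861800041010001c010d10d1071c005c38c5996132831c308245069254b7de6d4860762) i1)))) (nat_lit 0) (nat_lit 92) List.nil) : List ℤ)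
    = ?xq9017 → (List ℤ)) ?hq9017; (case hq9017 => (set_option maxRecDepth 1000000 in set_option simprocs false in conv => lhs; reduce; dsimp only)); intro _; exact ?xq9017 : List ℤ)

/-- a row -/
def r17 : List ℤ :=
  (by
  refine (?fq9018 : ((pk61l (fun i1 => (pk61z (pk61d (nat_lit 23) 
    (nat_lit 0x8dc1b0091a9c01bac0010aa001b00000bfc0010e0001870001b0000254000400000780000ee0001ac0002500004700006a0000a80000f80001e0000300000500000900000d00001800002c0000480000800000e0000180000280000400000600000800000800000) (pk61d (nat_lit 6) 
    (nat_lit 0x5c10810010800810000820000000010410001821860800000060c004c44514014500000a10000000904600034d0000081de6586925402d33802cb29071850f7e07568a16e3) i1)))) (nat_lit 0) (nat_lit 92) List.nil) : List ℤ)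
    = ?xq9018 → (List ℤ)) ?hq9018; (case hq9018 => (set_option maxRecDepth 1000000 in set_option simprocs false in conv => lhs; reduce; dsimp only)); intro _; exact ?xq9018 : List ℤ)

/-- a row -/
def r18 : List ℤ :=
  (by
  refine (?fq9019 : ((pk61l (fun i1 => (pk61z (pk61d (nat_lit 23) 
    (nat_lit 0x3bb8b602236c00aad800199c002cf0004930009140003f0000660000b500012e0001600002300004300007a0000dc0001580002a0000380000600000b80001300001a0000300000500000900000e0000180000280000400000600000800000800000) (pk61d (nat_lit 6) 
    (nat_lit 0x4c200000000108100100408200000008210104110110100004100000040e3490000051461450400080413013010430c401b6131d748905604b3c445569950a61e74c81f721) i1)))) (nat_lit 0) (nat_lit 92) List.nil) : List ℤ)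
    = ?xq9019 → (List ℤ)) ?hq9019; (case hq9019 => (set_option maxRecDepth 1000000 in set_option simprocs false in conv => lhs; reduce; dsimp only)); intro _; exact ?xq9019 : List ℤ)

/-- a row -/
def r19 : List ℤ :=
  (by
  refine (?fq9020 : ((pk61l (fun i1 => (pk61z (pk61d (nat_lit 24) 
    (nat_lit 0xa8db6c0388ec0070ec00111600096c0005b200015c0000a20000a100006c00005c00005900004600003600001200001100000c00000a000009000006000005000004000003000002000001000000) (pk61d (nat_lit 5) 
    (nat_lit 0x9044200002084200042100002088000000000040084411996b308c5014a5294400202200000010843d172645cb5a96b0000d9c1e9a5a80c5eb9) i1)))) (nat_lit 0) (nat_lit 92) List.nil) : List ℤ)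
    = ?xq9020 → (List ℤ)) ?hq9020; (case hq9020 => (set_option maxRecDepth 1000000 in set_option simprocs false in conv => lhs; reduce; dsimp only)); intro _; exact ?xq9020 : List ℤ)

/-- a row -/
def r20 : List ℤ :=
  (by
  refine (?fq9021 : ((pk61l (fun i1 => (pk61z (pk61d (nat_lit 24) 
    (nat_lit 0xccc27003510f0034f00020f400070200058f0002940001dd00014200009000008b00008700006f00003400003000002f00002c00002800002200001e00001d00001500001300001000000c00000b000009000008000007000006000005000004000003000002000001000000) (pk61d (nat_lit 6) 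
    (nat_lit 0x6010400020400820000000410000020421010c40840420000051000033802852c000514b0c00000090862c540b1471c021c6d265359110d34c1044cf5da5157e074b8a17a3) i1)))) (nat_lit 0) (nat_lit 92) List.nil) : List ℤ)
    = ?xq9021 → (List ℤ)) ?hq9021; (case hq9021 => (set_option maxRecDepth 1000000 in set_option simprocs false in conv => lhs; reduce; dsimp only)); intro _; exact ?xq9021 : List ℤ)

/-- a row -/
def r21 : List ℤ :=
  (by
  refine (?fq9022 : ((pk61l (fun i1 => (pk61z (pk61d (nat_lit 24) 
    (nat_lit 0xe3e800047800005800001800000c300008000006100005700000d000008000007700007000004000002000001f00000f00000e00000b00000a000009000008000007000006000005000003000002000001000000) (pk61d (nat_lit 5) 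
    (nat_lit 0x804200080110440000001000108462484220840012022030e001c00000001806002c21514a5200004d672935ec738c761dab90240be291d66db) i1)))) (nat_lit 0) (nat_lit 92) List.nil) : List ℤ)
    = ?xq9022 → (List ℤ)) ?hq9022; (case hq9022 => (set_option maxRecDepth 1000000 in set_option simprocs false in conv => lhs; reduce; dsimp only)); intro _; exact ?xq9022 : List ℤ)

/-- a row -/
def r22 : List ℤ :=
  (by
  refine (?fq9023 : ((pk61l (fun i1 => (pk61z (pk61d (nat_lit 25) 
    (nat_lit 0x430320013f500005d3c002d4000012000007c000036000018000006bc00013e00006b000030000017c00007800003800001980000bc00004800001f00000d800005c00002400000f000006000002c00000a0000040000018000008000002000000) (pk61d (nat_lit 5) 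
    (nat_lit 0x908200082210420000000084110400288a510000084210216001000019a01808010822001290000009dee9deb10020a31ce1c8180e62d4eef5e) i1)))) (nat_lit 0) (nat_lit 92) List.nil) : List ℤ)
    = ?xq9023 → (List ℤ)) ?hq9023; (case hq9023 => (set_option maxRecDepth 1000000 in set_option simprocs false in conv => lhs; reduce; dsimp only)); intro _; exact ?xq9023 : List ℤ)

/-- a row -/
def r23 : List ℤ :=
  (by
  refine (?fq9024 : ((pk61l (fun i1 => (pk61z (pk61d (nat_lit 25) 
    (nat_lit 0x509fc2801051400330c000bba8004cc4000c3c00014e00007a80003a80001a40000d100003980001b000006a00002a0000120000074000032000015000008800003800001800000b000004800001800000a0000040000018000008000002000000) (pk61d (nat_lit 5) 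
    (nat_lit 0x70c000000001000000420000010400284052000218c00020c049d00018c63144001425001eb00845053154a26b5a1a54a10a85991d7332df6fe) i1)))) (nat_lit 0) (nat_lit 92) List.nil) : List ℤ)
    = ?xq9024 → (List ℤ)) ?hq9024; (case hq9024 => (set_option maxRecDepth 1000000 in set_option simprocs false in conv => lhs; reduce; dsimp only)); intro _; exact ?xq9024 : List ℤ)

/-- a row -/
def r24 : List ℤ :=
  (by
  refine (?fq9025 : ((pk61l (fun i1 => (pk61z (pk61d (nat_lit 25) 
    (nat_lit 0xa2e07c02919e000aaa00028780004978001c1c0006100002300000ff00004600001a000008d00002c000013c00009000003800001780000a000004e00002100000e80000640000300000130000088000040000016000008000003800001800000a0000040000018000008000002000000) (pk61d (nat_lit 6) 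
    (nat_lit 0x60000010100000000000300000204000000008108504200000000000748c28820304a28104208204000034918614000801c58f4dd6532d538518540069745485f6cf8a07a3) i1)))) (nat_lit 0) (nat_lit 92) List.nil) : List ℤ)
    = ?xq9025 → (List ℤ)) ?hq9025; (case hq9025 => (set_option maxRecDepth 1000000 in set_option simprocs false in conv => lhs; reduce; dsimp only)); intro _; exact ?xq9025 : List ℤ)

/-- a row -/
def r25 : List ℤ :=
  (by
  refine (?fq9026 : ((pk61l (fun i1 => (pk61z (pk61d (nat_lit 25) 
    (nat_lit 0x2e122600ba030002e9e00120c0002a600004a400019e00005e80002a00000e400004e000014000009e00003c00001b00000900000240000100000078000030000014000008000003800001800000a0000040000018000008000002000000) (pk61d (nat_lit 5) 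
    (nat_lit 0x6884008041098000000000001180c00000000000084600294720c6809089288420100478000000003de6d75e932c0ad699acac64bde2cfe6b3d) i1)))) (nat_lit 0) (nat_lit 92) List.nil) : List ℤ)
    = ?xq9026 → (List ℤ)) ?hq9026; (case hq9026 => (set_option maxRecDepth 1000000 in set_option simprocs false in conv => lhs; reduce; dsimp only)); intro _; exact ?xq9026 : List ℤ)

/-- a row -/
def r26 : List ℤ :=
  (by
  refine (?fq9027 : ((pk61l (fun i1 => (pk61z (pk61d (nat_lit 25) 
    (nat_lit 0x3996af80cb30300447e0013e180011f20006c000015e80009cc00030a00008300004100001e40000d800004600002100000f0000072000030000017800009000004600001f000009000004400001800000b000004800002000000c0000050000020000008000002000000) (pk61d (nat_lit 6) 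
    (nat_lit 0x3c20400020010810800010410000020820000031000400000410410024452c510500514018000000704100028e0030c31dd5904d95c500430024821469224d79b71581f621) i1)))) (nat_lit 0) (nat_lit 92) List.nil) : List ℤ)
    = ?xq9027 → (List ℤ)) ?hq9027; (case hq9027 => (set_option maxRecDepth 1000000 in set_option simprocs false in conv => lhs; reduce; dsimp only)); intro _; exact ?xq9027 : List ℤ)

/-- a row -/
def r27 : List ℤ :=
  (by
  refine (?fq9028 : ((pk61l (fun i1 => (pk61z (pk61d (nat_lit 26) 
    (nat_lit 0x8881a0012277f0026f3000688000014bc0003df0000cfc00018f00005fc000070000010c00003000000a0000024000008000001f000007400001c000005c000010000003800000c000002c00000a00000240000060000014000004000000c0000020000004000000) (pk61d (nat_lit 5) 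
    (nat_lit 0xb04400042010842000000000108800404250840001441031c000c00026402006001c4688d6b100000d6a006e0a0526d0020fd0220ee711f72ff) i1)))) (nat_lit 0) (nat_lit 92) List.nil) : List ℤ)
    = ?xq9028 → (List ℤ)) ?hq9028; (case hq9028 => (set_option maxRecDepth 1000000 in set_option simprocs false in conv => lhs; reduce; dsimp only)); intro _; exact ?xq9028 : List ℤ)

/-- a row -/
def r28 : List ℤ :=
  (by
  refine (?fq9029 : ((pk61l (fun i1 => (pk61z (pk61d (nat_lit 26) 
    (nat_lit 0x8f874f00889bc00336f000222b00016c800033c000093000014300003f00000b4000028400006b00000cc0000230000048000011000003000000b00000200000060000014000004000000c0000020000004000000) (pk61d (nat_lit 5) 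
    (nat_lit 0x7844200021084001002100002084000000000000084601256040920014a5318400042100000010883d56f74a0b5b16a000019c5acadaa0c5e99) i1)))) (nat_lit 0) (nat_lit 92) List.nil) : List ℤ)
    = ?xq9029 → (List ℤ)) ?hq9029; (case hq9029 => (set_option maxRecDepth 1000000 in set_option simprocs false in conv => lhs; reduce; dsimp only)); intro _; exact ?xq9029 : List ℤ)

/-- a row -/
def r29 : List ℤ :=
  (by
  refine (?fq9030 : ((pk61l (fun i1 => (pk61z (pk61d (nat_lit 26) 
    (nat_lit 0x26c2f62042f888007620000cc8800076200015140004da0000d1c00034200007a800010e00001c8000055000013800003d00000d400003000000a000001e0000074000018000004c000012000004400000d00000280000060000014000004000000c0000020000004000000) (pk61d (nat_lit 6) 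
    (nat_lit 0x4c00020010000000000420c00000000000001811860400020000000882c61441c11403051c10410000000002490021420193ce15851044a2061463405d51d279a6d67dd720) i1)))) (nat_lit 0) (nat_lit 92) List.nil) : List ℤ)
    = ?xq9030 → (List ℤ)) ?hq9030; (case hq9030 => (set_option maxRecDepth 1000000 in set_option simprocs false in conv => lhs; reduce; dsimp only)); intro _; exact ?xq9030 : List ℤ)

/-- a row -/
def r30 : List ℤ :=
  (by
  refine (?fq9031 : ((pk61l (fun i1 => (pk61z (pk61d (nat_lit 26) 
    (nat_lit 0x284fe14023ecac0057d40004cc800118100024140007ce000105000011a000023000006b0000194000054000012800004100000ec00003600000a4000021000007400001c000004c000012000004400000e000003000000b00000240000060000014000004000000c0000020000004000000) (pk61d (nat_lit 6) 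
    (nat_lit 0x68000000200100400000204200000000000014214508000004400000a1c52c118500c14b08504000910400030c0040c301d55751140f2d240520924e6533567de7188606e2) i1)))) (nat_lit 0) (nat_lit 92) List.nil) : List ℤ)
    = ?xq9031 → (List ℤ)) ?hq9031; (case hq9031 => (set_option maxRecDepth 1000000 in set_option simprocs false in conv => lhs; reduce; dsimp only)); intro _; exact ?xq9031 : List ℤ)

/-- a row -/
def r31 : List ℤ :=
  (by
  refine (?fq9032 : ((pk61l (fun i1 => (pk61z (pk61d (nat_lit 26) 
    (nat_lit 0x28b81f0018703c00fff0000770c00155300025080005f00000f4c00022f000061000013000002f80000b3000020400005000000cc00003000000ac000023000006c000017000004c000012000004000000e000002c00000a00000200000060000014000004000000c0000020000004000000) (pk61d (nat_lit 6) 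
    (nat_lit 0x5c000004100000000000000000010000008210004314400000000000d34b3432401041080460800c000014514e00000001b5950d941308f30a0c744069851279f752860722) i1)))) (nat_lit 0) (nat_lit 92) List.nil) : List ℤ)
    = ?xq9032 → (List ℤ)) ?hq9032; (case hq9032 => (set_option maxRecDepth 1000000 in set_option simprocs false in conv => lhs; reduce; dsimp only)); intro _; exact ?xq9032 : List ℤ)

/-- a row -/
def r32 : List ℤ :=
  (by
  refine (?fq9033 : ((pk61l (fun i1 => (pk61z (pk61d (nat_lit 26) 
    (nat_lit 0x2b3103a04c32140083a0001a9e80015840000f1400033b0000ca400031d00002a00000a2000026c00007d000011c00003d00000d800003000000a800001e000007400001a0000060000012000004400000c000002c00000a000001c0000060000014000004000000c0000020000004000000) (pk61d (nat_lit 6) 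
    (nat_lit 0x5820400000800410000000c000000108100000000000000200610000a2892440c31803461420420080450000000021451d564f5dc2524c918c1852d069150e81e6d885f762) i1)))) (nat_lit 0) (nat_lit 92) List.nil) : List ℤ)
    = ?xq9033 → (List ℤ)) ?hq9033; (case hq9033 => (set_option maxRecDepth 1000000 in set_option simprocs false in conv => lhs; reduce; dsimp only)); intro _; exact ?xq9033 : List ℤ)

/-- a row -/
def r33 : List ℤ :=
  (by
  refine (?fq9034 : ((pk61l (fun i1 => (pk61z (pk61d (nat_lit 26) 
    (nat_lit 0xccc27000648c000323000028b0000570000129500008b40001b0000047c000108000029c0000900000200000060000011400003800000c00000240000060000015000004400000f000003000000900000200000070000018000005000000c0000020000004000000) (pk61d (nat_lit 5) 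
    (nat_lit 0xa0840100011082000041000021048000c0018000108410016a514001898700000020412252901cc04644f7dd446ca00481d1c4de0d72b6f777f) i1)))) (nat_lit 0) (nat_lit 92) List.nil) : List ℤ)
    = ?xq9034 → (List ℤ)) ?hq9034; (case hq9034 => (set_option maxRecDepth 1000000 in set_option simprocs false in conv => lhs; reduce; dsimp only)); intro _; exact ?xq9034 : List ℤ)

/-- a row -/
def r34 : List ℤ :=
  (by
  refine (?fq9035 : ((pk61l (fun i1 => (pk61z (pk61d (nat_lit 26) 
    (nat_lit 0xd92b5000b1bbf003b100002440000192400038e0000a0000022f0000580000140000037c0000640000164000050000012000003f0000084000020000007000001b0000044000010000003c00000d0000028000008000001c0000060000014000004000000c0000020000004000000) (pk61d (nat_lit 6) 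
    (nat_lit 0x5c000000100000000100004200208000020228504214100000000000c2400020000063401000c00800001c924904720001d5544990112d04c83833c068050071e6d681f621) i1)))) (nat_lit 0) (nat_lit 92) List.nil) : List ℤ)
    = ?xq9035 → (List ℤ)) ?hq9035; (case hq9035 => (set_option maxRecDepth 1000000 in set_option simprocs false in conv => lhs; reduce; dsimp only)); intro _; exact ?xq9035 : List ℤ)

/-- a row -/
def r35 : List ℤ :=
  (by
  refine (?fq9036 : ((pk61l (fun i1 => (pk61z (pk61d (nat_lit 26) 
    (nat_lit 0xdff4aa81009aa003fea8002aa800052a8001391000106800034800005240000c8000024400007800001b800005a0000128000049000010800003800000a4000028000009400001c000005c000013000003800000d000003000000900000200000070000018000005000000c0000020000004000000) (pk61d (nat_lit 6) 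
    (nat_lit 0x2400000800000000000020000000000000411420011c00010000000050022c02020871c724300200000044434400410201c68c65b5d019448e3ca10075559581e6138a17e3) i1)))) (nat_lit 0) (nat_lit 92) List.nil) : List ℤ)
    = ?xq9036 → (List ℤ)) ?hq9036; (case hq9036 => (set_option maxRecDepth 1000000 in set_option simprocs false in conv => lhs; reduce; dsimp only)); intro _; exact ?xq9036 : List ℤ)

/-- a row -/
def r36 : List ℤ :=
  (by
  refine (?fq9037 : ((pk61l (fun i1 => (pk61z (pk61d (nat_lit 27) 
    (nat_lit 0x432fccc0142966002fd3000144880006ba0000cca00014cc0001b180001ce000023400002b80000460000071000009a0000114000014800001e0000038000004c000008800000e000001a00000240000030000005000000800000080000008000000) (pk61d (nat_lit 5) 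
    (nat_lit 0x6880010801108000042100000104a0000a028000108000204841c211084630421018414812000c630626d952044a585215eeac56abe529deadc) i1)))) (nat_lit 0) (nat_lit 92) List.nil) : List ℤ)
    = ?xq9037 → (List ℤ)) ?hq9037; (case hq9037 => (set_option maxRecDepth 1000000 in set_option simprocs false in conv => lhs; reduce; dsimp only)); intro _; exact ?xq9037 : List ℤ)

/-- a row -/
def r37 : List ℤ :=
  (by
  refine (?fq9038 : ((pk61l (fun i1 => (pk61z (pk61d (nat_lit 27) 
    (nat_lit 0x47aa7400213c800010878001cdf8001da000036800000a8000011780001c000001ec00003c0000050000007f00000be00001400000230000040000005c000006c00000c000001700000220000040000005800000a0000010000001c0000030000004000000600000080000008000000) (pk61d (nat_lit 6) 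
    (nat_lit 0x28000000100200300000004200000000018104504114400008300000a2000020000052c01000c00090c33451450061c00115d45584cf29030628a28e64048079c6967dd6e0) i1)))) (nat_lit 0) (nat_lit 92) List.nil) : List ℤ)
    = ?xq9038 → (List ℤ)) ?hq9038; (case hq9038 => (set_option maxRecDepth 1000000 in set_option simprocs false in conv => lhs; reduce; dsimp only)); intro _; exact ?xq9038 : List ℤ)

/-- a row -/
def r38 : List ℤ :=
  (by
  refine (?fq9039 : ((pk61l (fun i1 => (pk61z (pk61d (nat_lit 27) 
    (nat_lit 0x4de5cc0030e07e0022a8800301f80008c00000ade000103c00011800001ea00002a0000020000003c0000050000009e00001140000218000042000005a000007c00000d8000015000001e00000280000048000008000000e00000180000028000004000000600000080000008000000) (pk61d (nat_lit 6) 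
    (nat_lit 0x38000008200000000000004204000000008228204208100000000000b24b2c10000c23080c010000000040514518720001849451a2cf2142c83484406564c079b5577dd720) i1)))) (nat_lit 0) (nat_lit 92) List.nil) : List ℤ)
    = ?xq9039 → (List ℤ)) ?hq9039; (case hq9039 => (set_option maxRecDepth 1000000 in set_option simprocs false in conv => lhs; reduce; dsimp only)); intro _; exact ?xq9039 : List ℤ)

/-- a row -/
def r39 : List ℤ :=
  (by
  refine (?fq9040 : ((pk61l (fun i1 => (pk61z (pk61d (nat_lit 27) 
    (nat_lit 0x284fe1401cf5a80015f5000266400008f6800093000009b40000f5c0001650000268000015a00001dc000038000006c000007000000bc00001500000280000048000007400000b8000011000001a00000300000058000008000000e00000180000028000004000000600000080000008000000) (pk61d (nat_lit 6) 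
    (nat_lit 0x1420000010020820000010000000000c000000418004000008200000b1c638714600000504504000320300030f00000701c5515d92d24512ce24929361640d79d6d481f6a1) i1)))) (nat_lit 0) (nat_lit 92) List.nil) : List ℤ)
    = ?xq9040 → (List ℤ)) ?hq9040; (case hq9040 => (set_option maxRecDepth 1000000 in set_option simprocs false in conv => lhs; reduce; dsimp only)); intro _; exact ?xq9040 : List ℤ)

/-- a row -/
def r40 : List ℤ :=
  (by
  refine (?fq9041 : ((pk61l (fun i1 => (pk61z (pk61d (nat_lit 27) 
    (nat_lit 0xb73c8b806c4e8c008b2e0005ffa00052ae000241400021c00003d30000346000042000007d000005f00000b0000015000001e000003b000006a00000c00000120000018000002e000004c00000880000100000018000002c0000050000008000000e00000180000028000004000000600000080000008000000) (pk61d (nat_lit 6) 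
    (nat_lit 0x58000000100000000000008200108000000000418004000000000000724a4092031451401c31020800000003510030ca01e6546925c53d830b14514071538381f7538a16e3) i1)))) (nat_lit 0) (nat_lit 92) List.nil) : List ℤ)
    = ?xq9041 → (List ℤ)) ?hq9041; (case hq9041 => (set_option maxRecDepth 1000000 in set_option simprocs false in conv => lhs; reduce; dsimp only)); intro _; exact ?xq9041 : List ℤ)

/-- a row -/
def r41 : List ℤ :=
  (by
  refine (?fq9042 : ((pk61l (fun i1 => (pk61z (pk61d (nat_lit 27) 
    (nat_lit 0x2e1226001ce83f0012da40004a4000041f80005e8000084a0000fbc0000d800000d80000180000023c000045000007f000006c00000c00000178000023000003a000005c0000088000010000001c0000034000005800000a000001200000200000038000006000000800000080000008000000) (pk61d (nat_lit 6) 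
    (nat_lit 0x58208004000204104000008100000108110000000000000008708200034c3040000c828500000000a0424c000000614021b55145a48f39238024040b6544807de71881d5e1) i1)))) (nat_lit 0) (nat_lit 92) List.nil) : List ℤ)
    = ?xq9042 → (List ℤ)) ?hq9042; (case hq9042 => (set_option maxRecDepth 1000000 in set_option simprocs false in conv => lhs; reduce; dsimp only)); intro _; exact ?xq9042 : List ℤ)

/-- a row -/
def r42 : List ℤ :=
  (by
  refine (?fq9043 : ((pk61l (fun i1 => (pk61z (pk61d (nat_lit 27) 
    (nat_lit 0x6a5144000c917e003bd0000134c8000a1f000108000008b80000d78000144000027c0000480000047800006000000be0000118000018000002f0000052000008c00000900000110000018000002c00000500000090000010000001c0000030000005000000800000080000008000000) (pk61d (nat_lit 6) 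
    (nat_lit 0x5410410000020410800000810000020420000000000000000410410c034000400000530000000000904200000000718021a5d05164cf01444028b39264040075c7187de6e0) i1)))) (nat_lit 0) (nat_lit 92) List.nil) : List ℤ)
    = ?xq9043 → (List ℤ)) ?hq9043; (case hq9043 => (set_option maxRecDepth 1000000 in set_option simprocs false in conv => lhs; reduce; dsimp only)); intro _; exact ?xq9043 : List ℤ)

/-- a row -/
def r43 : List ℤ :=
  (by
  refine (?fq9044 : ((pk61l (fun i1 => (pk61z (pk61d (nat_lit 27) 
    (nat_lit 0x1adfeb800987f000103e00009d38000333000017000002a00000498000068c0000b4000013c000023e0000280000036000006400000be00001500000148000020000003e000004c000008800000c0000016000001c0000030000004000000600000080000008000000) (pk61d (nat_lit 5) 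
    (nat_lit 0x70800080000840000000000001082138004000000140001d0a50c842108601064004254a4000000005e30a5a2a3280a319edc498bd6eb3ef33e) i1)))) (nat_lit 0) (nat_lit 92) List.nil) : List ℤ)
    = ?xq9044 → (List ℤ)) ?hq9044; (case hq9044 => (set_option maxRecDepth 1000000 in set_option simprocs false in conv => lhs; reduce; dsimp only)); intro _; exact ?xq9044 : List ℤ)

/-- a row -/
def r44 : List ℤ :=
  (by
  refine (?fq9045 : ((pk61l (fun i1 => (pk61z (pk61d (nat_lit 27) 
    (nat_lit 0x35bfd700130fe000207c0000e84c00066600007bc00005c00000a8000012600001a3000028600003bc000050000007d00000e600001b000002780000420000052000008c000010000001f0000038000004c000009000001100000200000030000005800000a000000e00000180000028000004000000600000080000008000000) (pk61d (nat_lit 6) 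
    (nat_lit 0x68200004000004100000000000000008204418500100000000600000928e3c31040441040070c100104630000d00000001d5955dc6ce3ce48b2085137994508628189237e5) i1)))) (nat_lit 0) (nat_lit 92) List.nil) : List ℤ)
    = ?xq9045 → (List ℤ)) ?hq9045; (case hq9045 => (set_option maxRecDepth 1000000 in set_option simprocs false in conv => lhs; reduce; dsimp only)); intro _; exact ?xq9045 : List ℤ)

/-- a row -/
def r45 : List ℤ :=
  (by
  refine (?fq9046 : ((pk61l (fun i1 => (pk61z (pk61d (nat_lit 27) 
    (nat_lit 0xda69000011e000002c000003e800002ffe0005e3c00036800006100000380000034000003f800007000000be0000100000018000001f0000032000005c000008000000e0000014000001c0000030000005000000800000080000008000000) (pk61d (nat_lit 5) 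
    (nat_lit 0x808200044010421000000000210800384240840018422024c0018000000018060020254a4210800015240031cd03cca0018b88220b62b3d66fb) i1)))) (nat_lit 0) (nat_lit 92) List.nil) : List ℤ)
    = ?xq9046 → (List ℤ)) ?hq9046; (case hq9046 => (set_option maxRecDepth 1000000 in set_option simprocs false in conv => lhs; reduce; dsimp only)); intro _; exact ?xq9046 : List ℤ)

/-- a row -/
def r46 : List ℤ :=
  (by
  refine (?fq9047 : ((pk61l (fun i1 => (pk61z (pk61d (nat_lit 27) 
    (nat_lit 0xdff4aa804334ac009f6a0004ac4000155200022ac00029400002bb00003e800007a400007d80000b40000128000022400002a000004b000007600000d800001a000001d0000036000005c00000a0000011000001c000002c0000048000008000000e00000180000028000004000000600000080000008000000) (pk61d (nat_lit 6) 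
    (nat_lit 0x50000004200000000000308200000000014020308008200000000000d2441061040410470c400100000040a40a1830c301a25865b3d239520a3062c07174d17e07568a17a3) i1)))) (nat_lit 0) (nat_lit 92) List.nil) : List ℤ)
    = ?xq9047 → (List ℤ)) ?hq9047; (case hq9047 => (set_option maxRecDepth 1000000 in set_option simprocs false in conv => lhs; reduce; dsimp only)); intro _; exact ?xq9047 : List ℤ)

/-- a row -/
def r47 : List ℤ :=
  (by
  refine (?fq9048 : ((pk61l (fun i1 => (pk61z (pk61d (nat_lit 27) 
    (nat_lit 0x1bfe955003d18a0001f540003c280005e080005548000528000071c000068c0000ae00000c2000012e0000208000040800005400000a6000014800001e000003b0000050000009c00000f000001d00000380000064000009000000b000000e00000180000028000004000000600000080000008000000) (pk61d (nat_lit 6) 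
    (nat_lit 0x5c00000000000000000020810000000001010421010c10000000000053052452450063400000000000004c620c18310301b54f59260a3d23871042c069045475e71985f822) i1)))) (nat_lit 0) (nat_lit 92) List.nil) : List ℤ)
    = ?xq9048 → (List ℤ)) ?hq9048; (case hq9048 => (set_option maxRecDepth 1000000 in set_option simprocs false in conv => lhs; reduce; dsimp only)); intro _; exact ?xq9048 : List ℤ)

/-- a row -/
def r48 : List ℤ :=
  (by
  refine (?fq9049 : ((pk61l (fun i1 => (pk61z (pk61d (nat_lit 27) 
    (nat_lit 0x7da5dc003ed7800020e8000221f8001a3f00032a0000167c0000fc0000143000018000002fc00005a00000a200000c0000017c000020000003b0000060000009c00000b8000012000002000000300000058000008000000e00000180000028000004000000600000080000008000000) (pk61d (nat_lit 6) 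
    (nat_lit 0x5400800000800030000000000000c10000000000000000000c30c000000a0002c418000a0040011002000000000000001da4d03d959228d24a14530e01701179b6147dd720) i1)))) (nat_lit 0) (nat_lit 92) List.nil) : List ℤ)
    = ?xq9049 → (List ℤ)) ?hq9049; (case hq9049 => (set_option maxRecDepth 1000000 in set_option simprocs false in conv => lhs; reduce; dsimp only)); intro _; exact ?xq9049 : List ℤ)

/-- a row -/
def r49 : List ℤ :=
  (by
  refine (?fq9050 : ((pk61l (fun i1 => (pk61z (pk61d (nat_lit 28) 
    (nat_lit 0x8c4000002c0000000e4000000c00000050000003ff000017f000008000000300000017000000f000000c000000800000040000003000000200000010000000) (pk61d (nat_lit 5) 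
    (nat_lit 0x5002100020180001000010002000002806000c00194800800000000000000000001c0049908000002b0000340000000000e7000007b96980011) i1)))) (nat_lit 0) (nat_lit 92) List.nil) : List ℤ)
    = ?xq9050 → (List ℤ)) ?hq9050; (case hq9050 => (set_option maxRecDepth 1000000 in set_option simprocs false in conv => lhs; reduce; dsimp only)); intro _; exact ?xq9050 : List ℤ)

/-- a row -/
def r50 : List ℤ :=
  (by
  refine (?fq9051 : ((pk61l (fun i1 => (pk61z (pk61d (nat_lit 28) 
    (nat_lit 0x8c4000002bffff000e4000000c0000004ff0000400000017f000007f000003000000170000010000000f000000c0000008000000700000040000003000000200000010000000) (pk61d (nat_lit 5) 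
    (nat_lit 0x600410002020000080001000200000280800100019860080000000000000000000240059d4a000003380003c000000000128000008c1ab90013) i1)))) (nat_lit 0) (nat_lit 92) List.nil) : List ℤ)
    = ?xq9051 → (List ℤ)) ?hq9051; (case hq9051 => (set_option maxRecDepth 1000000 in set_option simprocs false in conv => lhs; reduce; dsimp only)); intro _; exact ?xq9051 : List ℤ)

/-- a row -/
def r51 : List ℤ :=
  (by
  refine (?fq9052 : ((pk61l (fun i1 => (pk61z (pk61d (nat_lit 28) 
    (nat_lit 0x954dc7002ac470000b1bc000a8700001f8f00013f4000071c00005d20000230000020c000012e000010300000f400000740000063000004f00000330000026000001500000140000013000000e000000a0000009000000700000040000003000000200000010000000) (pk61d (nat_lit 5) 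
    (nat_lit 0x600000880000002000000000000043104420880000000029452112509087104210000058d081000005e468522f134e832180ab9cede2d3e6b3d) i1)))) (nat_lit 0) (nat_lit 92) List.nil) : List ℤ)
    = ?xq9052 → (List ℤ)) ?hq9052; (case hq9052 => (set_option maxRecDepth 1000000 in set_option simprocs false in conv => lhs; reduce; dsimp only)); intro _; exact ?xq9052 : List ℤ)

/-- a row -/
def r52 : List ℤ :=
  (by
  refine (?fq9053 : ((pk61l (fun i1 => (pk61z (pk61d (nat_lit 28) 
    (nat_lit 0xb32a22002e6edf000aee40007d200000a2000005ab0000364000029f000016300000de00000bb0000060000005400000450000043000003b000002f000002b00000230000020000001f000001e00000180000016000000c000000b000000a000000800000070000006000000500000040000003000000200000010000000) (pk61d (nat_lit 6) 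
    (nat_lit 0x5410000000020420000000000000000410000411c610100008200000b28d2840c814b2c00031020090824ca28614000001d64b5db4940111ca3863167183d085e4da8a07e3) i1)))) (nat_lit 0) (nat_lit 92) List.nil) : List ℤ)
    = ?xq9053 → (List ℤ)) ?hq9053; (case hq9053 => (set_option maxRecDepth 1000000 in set_option simprocs false in conv => lhs; reduce; dsimp only)); intro _; exact ?xq9053 : List ℤ)

/-- a row -/
def r53 : List ℤ :=
  (by
  refine (?fq9054 : ((pk61l (fun i1 => (pk61z (pk61d (nat_lit 28) 
    (nat_lit 0xbae000000200000005aff0000a4000009ff00000ff000002800000270000020000000b0000008000000700000040000003000000200000010000000) (pk61d (nat_lit 5) 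
    (nat_lit 0x200100200000000600000001800180202100400000000000000000000200a040c69180003816000160001000000a00000731a803c10) i1)))) (nat_lit 0) (nat_lit 92) List.nil) : List ℤ)
    = ?xq9054 → (List ℤ)) ?hq9054; (case hq9054 => (set_option maxRecDepth 1000000 in set_option simprocs false in conv => lhs; reduce; dsimp only)); intro _; exact ?xq9054 : List ℤ)

/-- a row -/
def r54 : List ℤ :=
  (by
  refine (?fq9055 : ((pk61l (fun i1 => (pk61z (pk61d (nat_lit 28) 
    (nat_lit 0xfe6fdd801db158000cb5800033420001a2700001f800001e5000010d00000a2000004700000360000035000001800000120000011000000b00000080000006000000500000040000003000000200000010000000) (pk61d (nat_lit 5) 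
    (nat_lit 0x200000000800000802840000000000000000402809501460000000000194c50000000007400007c600030000000d939cb05000b5677) i1)))) (nat_lit 0) (nat_lit 92) List.nil) : List ℤ)
    = ?xq9055 → (List ℤ)) ?hq9055; (case hq9055 => (set_option maxRecDepth 1000000 in set_option simprocs false in conv => lhs; reduce; dsimp only)); intro _; exact ?xq9055 : List ℤ)

/-- a row -/
def r55 : List ℤ :=
  (by
  refine (?fq9056 : ((pk61l (fun i1 => (pk61z (pk61d (nat_lit 29) 
    (nat_lit 0x9ed80000137fffc00215000010000000087f80001b7c00007fe000030000000e7800005fc0000180000007f000001800000080000003e000001600000080000003c00000160000008000000380000018000000a000000400000018000000800000020000000) (pk61d (nat_lit 5) 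
    (nat_lit 0x888200084008821000000082218000010c00800001422029c000000000004000009c6069184200001520004a0000160001e9a8000cded3d601b) i1)))) (nat_lit 0) (nat_lit 92) List.nil) : List ℤ)
    = ?xq9056 → (List ℤ)) ?hq9056; (case hq9056 => (set_option maxRecDepth 1000000 in set_option simprocs false in conv => lhs; reduce; dsimp only)); intro _; exact ?xq9056 : List ℤ)

/-- a row -/
def r56 : List ℤ :=
  (by
  refine (?fq9057 : ((pk61l (fun i1 => (pk61z (pk61d (nat_lit 29) 
    (nat_lit 0x13db0000027000000042a00002000000010ff000036f8000100000005fe00001cf00000c0000002fc00000fe000002f000000f800000580000020000000b00000040000001c000000a000000400000018000000800000020000000) (pk61d (nat_lit 5) 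
    (nat_lit 0x704400044010841000000042220000010a008000014420256000000000003000009c605914420000145a003da0001200018890000b5270bd418) i1)))) (nat_lit 0) (nat_lit 92) List.nil) : List ℤ)
    = ?xq9057 → (List ℤ)) ?hq9057; (case hq9057 => (set_option maxRecDepth 1000000 in set_option simprocs false in conv => lhs; reduce; dsimp only)); intro _; exact ?xq9057 : List ℤ)

/-- a row -/
def r57 : List ℤ :=
  (by
  refine (?fq9058 : ((pk61l (fun i1 => (pk61z (pk61d (nat_lit 29) 
    (nat_lit 0x14feeffc00b749e000168f000084520001ffd00006fe0000241400005a000001a400000c880000528000023200001090000084000003a8000009a000003b0000017800000a00000046000001e000000900000040000001a000000c00000058000002800000120000008000000380000018000000a000000400000018000000800000020000000) (pk61d (nat_lit 6) 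
    (nat_lit 0x5c00000000000000000010810000000001012c00040000000000000064051862421453c000800200000044f00000310401e69261b64d3814c734a54070c5038217568e27e4) i1)))) (nat_lit 0) (nat_lit 92) List.nil) : List ℤ)
    = ?xq9058 → (List ℤ)) ?hq9058; (case hq9058 => (set_option maxRecDepth 1000000 in set_option simprocs false in conv => lhs; reduce; dsimp only)); intro _; exact ?xq9058 : List ℤ)

/-- a row -/
def r58 : List ℤ :=
  (by
  refine (?fq9059 : ((pk61l (fun i1 => (pk61z (pk61d (nat_lit 29) 
    (nat_lit 0xa7f77fe005ba4f0000b47800046860000ffe800037f0000120a000038300000d200000644000029400000a6000004b0000022c00000a80000048000001d800000a40000046000001e000000e0000004c0000024000001100000068000003000000160000009000000380000018000000a000000400000018000000800000020000000) (pk61d (nat_lit 6) 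
    (nat_lit 0x4c000000000000000000108100000000010418600100000000000000640548620200534900300300000044000c00310401d65661a5cb38124f1075406ca4c37e07148a17a3) i1)))) (nat_lit 0) (nat_lit 92) List.nil) : List ℤ)
    = ?xq9059 → (List ℤ)) ?hq9059; (case hq9059 => (set_option maxRecDepth 1000000 in set_option simprocs false in conv => lhs; reduce; dsimp only)); intro _; exact ?xq9059 : List ℤ)

/-- a row -/
def r59 : List ℤ :=
  (by
  refine (?fq9060 : ((pk61l (fun i1 => (pk61z (pk61d (nat_lit 29) 
    (nat_lit 0xc25c90500e94cd4001af940004a0a00013ef00003fd40000b64000022d00000f3000002880000142000005a000002c80000134000006a000001d0000009000000440000014000000600000028000000800000020000000) (pk61d (nat_lit 5) 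
    (nat_lit 0x8400002008840008410000110800000000000100c41018c33108301c60000000144300000008a20c5c06bdac02c000000880d49a4c00b5657) i1)))) (nat_lit 0) (nat_lit 92) List.nil) : List ℤ)
    = ?xq9060 → (List ℤ)) ?hq9060; (case hq9060 => (set_option maxRecDepth 1000000 in set_option simprocs false in conv => lhs; reduce; dsimp only)); intro _; exact ?xq9060 : List ℤ)

/-- a row -/
def r60 : List ℤ :=
  (by
  refine (?fq9061 : ((pk61l (fun i1 => (pk61z (pk61d (nat_lit 29) 
    (nat_lit 0xc62ad17012120440019ddc00099c600007e8800016c400001420000096000001b000000480000022000000c000000480000020000000c000000500000020000000800000020000000) (pk61d (nat_lit 5) 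
    (nat_lit 0x422000201042010041004211800000000000020142110140010000152000000098600000001c250b9a00000b00000000085b58980000945f3) i1)))) (nat_lit 0) (nat_lit 92) List.nil) : List ℤ)
    = ?xq9061 → (List ℤ)) ?hq9061; (case hq9061 => (set_option maxRecDepth 1000000 in set_option simprocs false in conv => lhs; reduce; dsimp only)); intro _; exact ?xq9061 : List ℤ)

/-- a row -/
def r61 : List ℤ :=
  (by
  refine (?fq9062 : ((pk61l (fun i1 => (pk61z (pk61d (nat_lit 29) 
    (nat_lit 0x3263d99001f28b70005ca40000dde40004cc60000737000022180000af8000024c000010d000005b000002a0000012e0000096000003300000170000008a000003c000001b8000008c0000042000001e000000e800000480000016000000a000000400000018000000a000000400000018000000800000020000000) (pk61d (nat_lit 6) 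
    (nat_lit 0x1810000000020420000020000000000410001420050c000008200000624618404118924618104100808200038a00000701b4934d95d03143461452d159654f75e69881f721) i1)))) (nat_lit 0) (nat_lit 92) List.nil) : List ℤ)
    = ?xq9062 → (List ℤ)) ?hq9062; (case hq9062 => (set_option maxRecDepth 1000000 in set_option simprocs false in conv => lhs; reduce; dsimp only)); intro _; exact ?xq9062 : List ℤ)

/-- a row -/
def r62 : List ℤ :=
  (by
  refine (?fq9063 : ((pk61l (fun i1 => (pk61z (pk61d (nat_lit 29) 
    (nat_lit 0xce241cf00077f840004b3c00012fc00004bf0000034400000d80000059000001b0000008c000003c000001100000060000002c000000c000000500000020000000800000020000000) (pk61d (nat_lit 5) 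
    (nat_lit 0x580000000000000000000042000000000000000200000018073806300005204830800000000014a50000c535a042968501a0725c1041e094a33) i1)))) (nat_lit 0) (nat_lit 92) List.nil) : List ℤ)
    = ?xq9063 → (List ℤ)) ?hq9063; (case hq9063 => (set_option maxRecDepth 1000000 in set_option simprocs false in conv => lhs; reduce; dsimp only)); intro _; exact ?xq9063 : List ℤ)

/-- a row -/
def r63 : List ℤ :=
  (by
  refine (?fq9064 : ((pk61l (fun i1 => (pk61z (pk61d (nat_lit 29) 
    (nat_lit 0x19d74ec0024a8600004830000113a000026c00000e7c00001a4000009d800000ef00000538000021000000fc0000077000002b800001400000080000003f000001d800000e000000540000014000000900000044000001e000000900000040000001c000000a000000400000018000000800000020000000) (pk61d (nat_lit 6) 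
    (nat_lit 0x5800010800000000000000000000000000821450020000000000001000071c01860892430040010000002ca00b00000001a60c3945d20d33c308834001001175b6557de720) i1)))) (nat_lit 0) (nat_lit 92) List.nil) : List ℤ)
    = ?xq9064 → (List ℤ)) ?hq9064; (case hq9064 => (set_option maxRecDepth 1000000 in set_option simprocs false in conv => lhs; reduce; dsimp only)); intro _; exact ?xq9064 : List ℤ)

/-- a row -/
def r64 : List ℤ :=
  (by
  refine (?fq9065 : ((pk61l (fun i1 => (pk61z (pk61d (nat_lit 29) 
    (nat_lit 0x1d277c0c017aef98006efcc000941400011160000306000016c80000738000032a00000750000028400000d8000005c000002c8000014c000006c0000035000000e8000006400000240000011000000380000018000000a000000400000018000000800000020000000) (pk61d (nat_lit 5) 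
    (nat_lit 0x90020000410100000442000012880000000000000908001969308c5014a531840018210000000c643d2726c9ec4a1280000aac60ece2c0deafc) i1)))) (nat_lit 0) (nat_lit 92) List.nil) : List ℤ)
    = ?xq9065 → (List ℤ)) ?hq9065; (case hq9065 => (set_option maxRecDepth 1000000 in set_option simprocs false in conv => lhs; reduce; dsimp only)); intro _; exact ?xq9065 : List ℤ)

/-- a row -/
def r65 : List ℤ :=
  (by
  refine (?fq9066 : ((pk61l (fun i1 => (pk61z (pk61d (nat_lit 29) 
    (nat_lit 0x7d9665200753f90000ee3700027de00006adc000222a0000b64000046e0000125c00001f800000d7000005100000168000009000000350000014000000900000046000001b00000090000004400000160000008000000380000018000000a000000400000018000000800000020000000) (pk61d (nat_lit 5) 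
    (nat_lit 0x40200000088000880000000200000000000000188001152a290a6025290008001c60000000000805ea084e4d72dc00000cb51f1de700ef35e) i1)))) (nat_lit 0) (nat_lit 92) List.nil) : List ℤ)
    = ?xq9066 → (List ℤ)) ?hq9066; (case hq9066 => (set_option maxRecDepth 1000000 in set_option simprocs false in conv => lhs; reduce; dsimp only)); intro _; exact ?xq9066 : List ℤ)

/-- a row -/
def r66 : List ℤ :=
  (by
  refine (?fq9067 : ((pk61l (fun i1 => (pk61z (pk61d (nat_lit 29) 
    (nat_lit 0x3efccff404b9b450008bdd00017fe80007e240000c4d00003b1000017e80000264000010e000006a80000348000015a000007d000003900000114000006a0000032000000f00000074000002a00000120000008800000280000012000000600000028000000800000020000000) (pk61d (nat_lit 5) 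
    (nat_lit 0x80000100000000000822000000006000000000010000000d621144212442188420000068000018420614a8d5ed52148210e094d8ed66f4e6edd) i1)))) (nat_lit 0) (nat_lit 92) List.nil) : List ℤ)
    = ?xq9067 → (List ℤ)) ?hq9067; (case hq9067 => (set_option maxRecDepth 1000000 in set_option simprocs false in conv => lhs; reduce; dsimp only)); intro _; exact ?xq9067 : List ℤ)

/-- a row -/
def r67 : List ℤ :=
  (by
  refine (?fq9068 : ((pk61l (fun i1 => (pk61z (pk61d (nat_lit 29) 
    (nat_lit 0x3f12000004e00000007fff8002be0000035fe00003ff00001b000000bfc000035e0000180000005f80000200000005e00000230000010000000700000024000000f000000480000020000000a000000400000018000000800000020000000) (pk61d (nat_lit 5) 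
    (nat_lit 0x78840008001042000000004421800000ca0100202044102160000000000030000118800012c000003c9c0041c000100001aaa0000b5671c5c19) i1)))) (nat_lit 0) (nat_lit 92) List.nil) : List ℤ)
    = ?xq9068 → (List ℤ)) ?hq9068; (case hq9068 => (set_option maxRecDepth 1000000 in set_option simprocs false in conv => lhs; reduce; dsimp only)); intro _; exact ?xq9068 : List ℤ)

/-- a row -/
def r68 : List ℤ :=
  (by
  refine (?fq9069 : ((pk61l (fun i1 => (pk61z (pk61d (nat_lit 29) 
    (nat_lit 0x7e24000009bfffe000ffff00057c000006bfc000080000003600000180000006bc00002fe00000c00000040000000c00000046000001f000000e000000480000020000000f00000048000001c000000c000000400000018000000800000020000000) (pk61d (nat_lit 5) 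
    (nat_lit 0x80420004000844000000008422000000ca0100202042102580000000000030000118800014d000003cde0045e000100001cba8000bda92ce01a) i1)))) (nat_lit 0) (nat_lit 92) List.nil) : List ℤ)
    = ?xq9069 → (List ℤ)) ?hq9069; (case hq9069 => (set_option maxRecDepth 1000000 in set_option simprocs false in conv => lhs; reduce; dsimp only)); intro _; exact ?xq9069 : List ℤ)

/-- a row -/
def r69 : List ℤ :=
  (by
  refine (?fq9070 : ((pk61l (fun i1 => (pk61z (pk61d (nat_lit 30) 
    (nat_lit 0x8881a00004307ff0001600000039b00000cffc00009cf0000200000003900000078000000d00000021c0000080000001fc000004600000100000003000000080000001b00000040000000f0000002800000090000002000000070000001400000040000000c0000002000000040000000) (pk61d (nat_lit 5) 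
    (nat_lit 0x708400040110422000000000110862284a2080000844202cc00180000000200800202162108180004da92955ea6b4c751dd088220d6713e6efd) i1)))) (nat_lit 0) (nat_lit 92) List.nil) : List ℤ)
    = ?xq9070 → (List ℤ)) ?hq9070; (case hq9070 => (set_option maxRecDepth 1000000 in set_option simprocs false in conv => lhs; reduce; dsimp only)); intro _; exact ?xq9070 : List ℤ)

/-- a row -/
def r70 : List ℤ :=
  (by
  refine (?fq9071 : ((pk61l (fun i1 => (pk61z (pk61d (nat_lit 30) 
    (nat_lit 0x893247c0046b270000141c00004a0a000088ac0000e0f00002d8c000032a0000050c00000ef000003a800000b400000240000006b000001400000035000000c000000280000008c000001d00000030000000b0000002000000070000001400000040000000c0000002000000040000000) (pk61d (nat_lit 5) 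
    (nat_lit 0x2000020010200004200001000000000000040210210254040920014a900060000c00000001ce00da608564e5ad600000ca45edd66e0e6f1d) i1)))) (nat_lit 0) (nat_lit 92) List.nil) : List ℤ)
    = ?xq9071 → (List ℤ)) ?hq9071; (case hq9071 => (set_option maxRecDepth 1000000 in set_option simprocs false in conv => lhs; reduce; dsimp only)); intro _; exact ?xq9071 : List ℤ)

/-- a row -/
def r71 : List ℤ :=
  (by
  refine (?fq9072 : ((pk61l (fun i1 => (pk61z (pk61d (nat_lit 30) 
    (nat_lit 0x89db01000534b40000267180003cbf0000510000005b1000006bc00000a1000000d8000002f000000a4000001200000044000000a0000002000000070000001800000050000000c0000002000000040000000) (pk61d (nat_lit 5) 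
    (nat_lit 0x422000001044000041088410880000000000000142218140010000152000000108240000001cc0441c00000d000000000b7818098000a4a35) i1)))) (nat_lit 0) (nat_lit 92) List.nil) : List ℤ)
    = ?xq9072 → (List ℤ)) ?hq9072; (case hq9072 => (set_option maxRecDepth 1000000 in set_option simprocs false in conv => lhs; reduce; dsimp only)); intro _; exact ?xq9072 : List ℤ)

/-- a row -/
def r72 : List ℤ :=
  (by
  refine (?fq9073 : ((pk61l (fun i1 => (pk61z (pk61d (nat_lit 30) 
    (nat_lit 0x954dc700018703f00019a60000603f0000e37c000063f0000118000001170000040000000c800000300000009f000002340000087000001e40000040000000a000000200000006000000140000003c000000d0000003000000090000002000000070000001400000040000000c0000002000000040000000) (pk61d (nat_lit 5) 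
    (nat_lit 0x78000000000000200000000000006250882184000000000009680c428000018010000060982100000669895ece72d6740a2005410df753f735f) i1)))) (nat_lit 0) (nat_lit 92) List.nil) : List ℤ)
    = ?xq9073 → (List ℤ)) ?hq9073; (case hq9073 => (set_option maxRecDepth 1000000 in set_option simprocs false in conv => lhs; reduce; dsimp only)); intro _; exact ?xq9073 : List ℤ)

/-- a row -/
def r73 : List ℤ :=
  (by
  refine (?fq9074 : ((pk61l (fun i1 => (pk61z (pk61d (nat_lit 30) 
    (nat_lit 0x954dc700018703f000180fc00038df0000885c000063f00001180000011b0000040000000e70000032000000c00000027c0000040000000cc000002c000000a000000200000006c000001700000050000000f00000030000000b0000001c00000040000000c0000002000000040000000) (pk61d (nat_lit 5) 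
    (nat_lit 0xb0000000000000200000000000006320c83184000000000007500a40000601004000004a5291000005e299d68c5a1ee40da004810d6529e6f1d) i1)))) (nat_lit 0) (nat_lit 92) List.nil) : List ℤ)
    = ?xq9074 → (List ℤ)) ?hq9074; (case hq9074 => (set_option maxRecDepth 1000000 in set_option simprocs false in conv => lhs; reduce; dsimp only)); intro _; exact ?xq9074 : List ℤ)

/-- a row -/
def r74 : List ℤ :=
  (by
  refine (?fq9075 : ((pk61l (fun i1 => (pk61z (pk61d (nat_lit 30) 
    (nat_lit 0x954dc70004950c000048300000271a000037000000b4f000029dc00005bd00000bfc0000230000003480000080000001fc00000600000013c0000040000000c000000210000007000000100000003c000000d0000002c000000a0000002400000080000001c00000060000001400000040000000c0000002000000040000000) (pk61d (nat_lit 6) 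
    (nat_lit 0x50000004200000000200004200000000004118518114000000000000d24e38100010a3070c01000000004020820c720001a5d34d944a1d24473c72c06154c079c6d681f761) i1)))) (nat_lit 0) (nat_lit 92) List.nil) : List ℤ)
    = ?xq9075 → (List ℤ)) ?hq9075; (case hq9075 => (set_option maxRecDepth 1000000 in set_option simprocs false in conv => lhs; reduce; dsimp only)); intro _; exact ?xq9075 : List ℤ)

/-- a row -/
def r75 : List ℤ :=
  (by
  refine (?fq9076 : ((pk61l (fun i1 => (pk61z (pk61d (nat_lit 30) 
    (nat_lit 0x9991d400029e500000ad4000007c4f0000e9fc0000c3000001400000026f0000090000001200000023c00000500000011c000003f000000bc00000270000009000000180000004800000110000003c00000080000001c00000060000001400000040000000c0000002000000040000000) (pk61d (nat_lit 5) 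
    (nat_lit 0x780200004000c00000000000100062298020000018c8000000000000000000000001006ac0a000003e27285a89824094218e00000d66b1e6efd) i1)))) (nat_lit 0) (nat_lit 92) List.nil) : List ℤ)
    = ?xq9076 → (List ℤ)) ?hq9076; (case hq9076 => (set_option maxRecDepth 1000000 in set_option simprocs false in conv => lhs; reduce; dsimp only)); intro _; exact ?xq9076 : List ℤ)

/-- a row -/
def r76 : List ℤ :=
  (by
  refine (?fq9077 : ((pk61l (fun i1 => (pk61z (pk61d (nat_lit 30) 
    (nat_lit 0xa03f200004307ff0001600000017ff000057c00000d7f000021bc00003900000078000001b00000034000000800000017c0000040000000c0000001e0000005c00000110000003c00000090000002000000070000001800000050000000c0000002000000040000000) (pk61d (nat_lit 5) 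
    (nat_lit 0x684400084010440000000800208400204840800001442024e001c000000018060020250014a000001522004dcd03ccb001ac80200bdab2d671b) i1)))) (nat_lit 0) (nat_lit 92) List.nil) : List ℤ)
    = ?xq9077 → (List ℤ)) ?hq9077; (case hq9077 => (set_option maxRecDepth 1000000 in set_option simprocs false in conv => lhs; reduce; dsimp only)); intro _; exact ?xq9077 : List ℤ)

/-- a row -/
def r77 : List ℤ :=
  (by
  refine (?fq9078 : ((pk61l (fun i1 => (pk61z (pk61d (nat_lit 30) 
    (nat_lit 0xa2e07c0003e34ff0003d3fc0002aa8000063c00000f000000302000007f7000006dc00001a00000040000000e40000023c000008000000180000004f000000a4000001f0000005c00000100000003c000000c0000002c00000080000001c00000060000001400000040000000c0000002000000040000000) (pk61d (nat_lit 5) 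
    (nat_lit 0x9000008000000000000000440000c04106020800000000000e6000021ce700000100007a94a28000066e09da0d6c4e00256005400e6f14f775f) i1)))) (nat_lit 0) (nat_lit 92) List.nil) : List ℤ)
    = ?xq9078 → (List ℤ)) ?hq9078; (case hq9078 => (set_option maxRecDepth 1000000 in set_option simprocs false in conv => lhs; reduce; dsimp only)); intro _; exact ?xq9078 : List ℤ)

/-- a row -/
def r78 : List ℤ :=
  (by
  refine (?fq9079 : ((pk61l (fun i1 => (pk61z (pk61d (nat_lit 30) 
    (nat_lit 0x28f3b00000fa4000000afff000088800000fff00002a00000099f00000bfc00001bf0000067c00001380000027c0000080000001fc000003f000000b0000002000000040000000f00000030000000b0000002000000060000001400000040000000c0000002000000040000000) (pk61d (nat_lit 5) 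
    (nat_lit 0x880000004119000000000000000062190e32080010c030000000000000000000000c8441908280004da70851ec6396a51d4d00000cdeb2deb1c) i1)))) (nat_lit 0) (nat_lit 92) List.nil) : List ℤ)
    = ?xq9079 → (List ℤ)) ?hq9079; (case hq9079 => (set_option maxRecDepth 1000000 in set_option simprocs false in conv => lhs; reduce; dsimp only)); intro _; exact ?xq9079 : List ℤ)

/-- a row -/
def r79 : List ℤ :=
  (by
  refine (?fq9080 : ((pk61l (fun i1 => (pk61z (pk61d (nat_lit 30) 
    (nat_lit 0xa7f77fe002dd2780002d1e00003ffb0000de78000340700000a0400001a40000046000000b300000210000007e000000f0000003b0000009c00000240000007800000190000004c000001100000038000000c0000001c00000060000001400000040000000c0000002000000040000000) (pk61d (nat_lit 5) 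
    (nat_lit 0x9800010400000000040000000000c0000a030000000000316948c2118c632106400000501400000705a106ddae4490e42220abde7d6694e6f1d) i1)))) (nat_lit 0) (nat_lit 92) List.nil) : List ℤ)
    = ?xq9080 → (List ℤ)) ?hq9080; (case hq9080 => (set_option maxRecDepth 1000000 in set_option simprocs false in conv => lhs; reduce; dsimp only)); intro _; exact ?xq9080 : List ℤ)

/-- a row -/
def r80 : List ℤ :=
  (by
  refine (?fq9081 : ((pk61l (fun i1 => (pk61z (pk61d (nat_lit 30) 
    (nat_lit 0x2b3103a00057fa80000daa00001ccac00024b400002e800000ad400001950000029f0000050c000012b0000047c00000770000017c0000048000000f000000230000007c000001e00000060000000c0000002c00000090000001800000040000000c0000002000000040000000) (pk61d (nat_lit 5) 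
    (nat_lit 0x704000004010400000000000008400000000000001403020e0391000210800080018250000000000458f03b2473b4e939d8aa456fce2b3deafc) i1)))) (nat_lit 0) (nat_lit 92) List.nil) : List ℤ)
    = ?xq9081 → (List ℤ)) ?hq9081; (case hq9081 => (set_option maxRecDepth 1000000 in set_option simprocs false in conv => lhs; reduce; dsimp only)); intro _; exact ?xq9081 : List ℤ)

/-- a row -/
def r81 : List ℤ :=
  (by
  refine (?fq9082 : ((pk61l (fun i1 => (pk61z (pk61d (nat_lit 30) 
    (nat_lit 0xe34f3b88036a96200092a7400014e2000011b400000a2000001f4000003600000048000000b000000180000005000000100000002000000040000000) (pk61d (nat_lit 4) 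
    (nat_lit 0x10000000000210510000000021000300000000000000001555000004446000000000000008ba790000edcf) i1)))) (nat_lit 0) (nat_lit 92) List.nil) : List ℤ)
    = ?xq9082 → (List ℤ)) ?hq9082; (case hq9082 => (set_option maxRecDepth 1000000 in set_option simprocs false in conv => lhs; reduce; dsimp only)); intro _; exact ?xq9082 : List ℤ)

/-- a row -/
def r82 : List ℤ :=
  (by
  refine (?fq9083 : ((pk61l (fun i1 => (pk61z (pk61d (nat_lit 30) 
    (nat_lit 0x3b3c1a6e002c0cb800099c5000248b800005b2000011b800001790000028800000a100000198000003500000074000001200000044000000a0000002400000080000001800000050000000c0000002000000040000000) (pk61d (nat_lit 5) 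
    (nat_lit 0x8410002008800100220800210800000000000201060081200140001140000000204400000004e5349e00000c000000000b839a9a0000ace36) i1)))) (nat_lit 0) (nat_lit 92) List.nil) : List ℤ)
    = ?xq9083 → (List ℤ)) ?hq9083; (case hq9083 => (set_option maxRecDepth 1000000 in set_option simprocs false in conv => lhs; reduce; dsimp only)); intro _; exact ?xq9083 : List ℤ)

/-- a row -/
def r83 : List ℤ :=
  (by
  refine (?fq9084 : ((pk61l (fun i1 => (pk61z (pk61d (nat_lit 30) 
    (nat_lit 0xfb2cca40013cb90000771bc0004fbb000088ac000116f0000236c00005b2000005400000143000003ec00000b4000002880000090000001ac0000050000000dc000002f00000090000002300000048000000c0000002c00000070000001400000040000000c0000002000000040000000) (pk61d (nat_lit 5) 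
    (nat_lit 0x8880100002104000000000000180000000000000084002210038d00021052944000cc3000000000005e717d24b4a9290000dac1ccd66c0e6f1d) i1)))) (nat_lit 0) (nat_lit 92) List.nil) : List ℤ)
    = ?xq9084 → (List ℤ)) ?hq9084; (case hq9084 => (set_option maxRecDepth 1000000 in set_option simprocs false in conv => lhs; reduce; dsimp only)); intro _; exact ?xq9084 : List ℤ)

/-- a row -/
def r84 : List ℤ :=
  (by
  refine (?fq9085 : ((pk61l (fun i1 => (pk61z (pk61d (nat_lit 30) 
    (nat_lit 0xfbf33fd0004950b00064c2c0005ff90000a2d8000120b00001064000021c000006bc00001a40000039800000c9000001c400000640000017c0000054000001380000036000000c0000002f0000008c000001e0000004800000110000003000000060000001400000040000000c0000002000000040000000) (pk61d (nat_lit 5) 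
    (nat_lit 0x8800000000000000082100000000003080618000000000194530505018c700080000000016901083066a074e865bc6c001a0b4250e6f17f775f) i1)))) (nat_lit 0) (nat_lit 92) List.nil) : List ℤ)
    = ?xq9085 → (List ℤ)) ?hq9085; (case hq9085 => (set_option maxRecDepth 1000000 in set_option simprocs false in conv => lhs; reduce; dsimp only)); intro _; exact ?xq9085 : List ℤ)

/-- a row -/
def r85 : List ℤ :=
  (by
  refine (?fq9086 : ((pk61l (fun i1 => (pk61z (pk61d (nat_lit 31) 
    (nat_lit 0x42b154a800a4f5ae0005135c000102280000ca8000012fc00000d2000000bd00000137000000ee000001ac00000340000005a0000006c000000d4000001200000012000000220000001c0000003000000050000000600000008000000080000000) (pk61d (nat_lit 5) 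
    (nat_lit 0x500000000000000004000000000000000000004000000010042004200005288830000000000000060000c645403a968481c0941ed05660bda98) i1)))) (nat_lit 0) (nat_lit 92) List.nil) : List ℤ)
    = ?xq9086 → (List ℤ)) ?hq9086; (case hq9086 => (set_option maxRecDepth 1000000 in set_option simprocs false in conv => lhs; reduce; dsimp only)); intro _; exact ?xq9086 : List ℤ)

/-- a row -/
def r86 : List ℤ :=
  (by
  refine (?fq9087 : ((pk61l (fun i1 => (pk61z (pk61d (nat_lit 22) 
    (nat_lit 0xcc6500238bf0071c0008bf001340002300006fc0014000045c000ab0001bc0005c00013c000400000fc000380000b0000270000800001b0000500001000003c0000800001c0000400000c00000) (pk61d (nat_lit 5) 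
    (nat_lit 0x60000100000000100000004400002108881184400000000003300a4118c301001100005a08808000059ea8d5e52246409e000380dcde72d629b) i1)))) (nat_lit 0) (nat_lit 92) List.nil) : List ℤ)
    = ?xq9087 → (List ℤ)) ?hq9087; (case hq9087 => (set_option maxRecDepth 1000000 in set_option simprocs false in conv => lhs; reduce; dsimp only)); intro _; exact ?xq9087 : List ℤ)

/-- a row -/
def r87 : List ℤ :=
  (by
  refine (?fq9088 : ((pk61l (fun i1 => (pk61z (pk61d (nat_lit 22) 
    (nat_lit 0xcfba2030e0800c71000c080015dc003ac0006b00011800036c0008b0001a00005b0001300003300009c0002400007c0001c00005c0001400004c000100000300000b000020000070000100000300000400000) (pk61d (nat_lit 5) 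
    (nat_lit 0x8800000c000000200c6208000000831886310c00000000312738842019c6188450000098842110a4051494e2121c54c411a0b2de5ddeb3e6b3d) i1)))) (nat_lit 0) (nat_lit 92) List.nil) : List ℤ)
    = ?xq9088 → (List ℤ)) ?hq9088; (case hq9088 => (set_option maxRecDepth 1000000 in set_option simprocs false in conv => lhs; reduce; dsimp only)); intro _; exact ?xq9088 : List ℤ)

/-- a row -/
def r88 : List ℤ :=
  (by
  refine (?fq9089 : ((pk61l (fun i1 => (pk61z (pk61d (nat_lit 26) 
    (nat_lit 0x22bf40003e9000007d200006ffc000d3f0002ffc0004a0000117c00011800003fc0000bf00001a0000060000017c00004000000dc0000200000060000017000003c000008000001c000004000000c000000) (pk61d (nat_lit 5) 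
    (nat_lit 0x400000000100c02000000004000000290802040010c000000000000000000000009c6450c63100000450c749eb03100399a900000b5150bd678) i1)))) (nat_lit 0) (nat_lit 92) List.nil) : List ℤ)
    = ?xq9089 → (List ℤ)) ?hq9089; (case hq9089 => (set_option maxRecDepth 1000000 in set_option simprocs false in conv => lhs; reduce; dsimp only)); intro _; exact ?xq9089 : List ℤ)

/-- a row -/
def r89 : List ℤ :=
  (by
  refine (?fq9090 : ((pk61l (fun i1 => (pk61z (pk61d (nat_lit 30) 
    (nat_lit 0x91ed080002d1dff000c0800000761f00015efc0001dff0000347c000087000000a8000000ef0000036000000c00000027c0000080000001800000048000000c0000002f0000008c00000180000005c000000f000000300000008000000100000003000000040000000) (pk61d (nat_lit 5) 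
    (nat_lit 0x50001000000000008000000000000028805200600000008000000000000000000000000018900000055f284dcd5b4ca39d0000000c5e91d66db) i1)))) (nat_lit 0) (nat_lit 92) List.nil) : List ℤ)
    = ?xq9090 → (List ℤ)) ?hq9090; (case hq9090 => (set_option maxRecDepth 1000000 in set_option simprocs false in conv => lhs; reduce; dsimp only)); intro _; exact ?xq9090 : List ℤ)

/-- a row -/
def r90 : List ℤ :=
  (by
  refine (?fq9091 : ((pk61l (fun i1 => (pk61z (pk61d (nat_lit 31) 
    (nat_lit 0x44e8d200005a3bfe000c08000006f8f80004d40000064000000347c0000617800002e7000005400000027c000004000000078000000a0000000fc0000017800000180000002e0000003c0000006000000080000000600000008000000080000000) (pk61d (nat_lit 5) 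
    (nat_lit 0x48002000000000008000000000008328c0320000000001000000000000000000000000614e500000049cb53dae5b8c62110000000ad230bda78) i1)))) (nat_lit 0) (nat_lit 92) List.nil) : List ℤ)
    = ?xq9091 → (List ℤ)) ?hq9091; (case hq9091 => (set_option maxRecDepth 1000000 in set_option simprocs false in conv => lhs; reduce; dsimp only)); intro _; exact ?xq9091 : List ℤ)

/-- a row -/
def r91 : List ℤ :=
  (by
  refine (?fq9092 : ((pk61l (fun i1 => (pk61z (pk61d (nat_lit 31) 
    (nat_lit 0xf0a0000000045ffc0001fff800009ff000007000000009c000001000000008000000080000000c000000100000000) (pk61d (nat_lit 4) 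
    (nat_lit 0x100000002000030000000000000200000200000000000000000005655400000000000000000000000a987000b) i1)))) (nat_lit 0) (nat_lit 92) List.nil) : List ℤ)
    = ?xq9092 → (List ℤ)) ?hq9092; (case hq9092 => (set_option maxRecDepth 1000000 in set_option simprocs false in conv => lhs; reduce; dsimp only)); intro _; exact ?xq9092 : List ℤ)

/-- 86 irreducible characters and 6 sums of two conjugate characters -/
def rows : List (List ℤ) := (beta% delta% lq265f5a0dab81 fun _ vqc1 _ vqc3 _ vqc5 _ _ _ =>
    (let vqy1 : type_of% (vqc5 _) := (let vqy2 : type_of% (vqc5 _) := (let vqy3 : type_of% (vqc5 _) := (let vqy4 : type_of% (vqc5 _) := (vqc1 r86 (vqc1 r87 (vqc1 r88 (vqc1 r89 (vqc1 r90 (vqc1 r91 vqc3))))));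
    (vqc1 r80
    (vqc1 r81 (vqc1 r82 (vqc1 r83 (vqc1 r84 (vqc1 r85 vqy4)))))));
    (let vqy5 : type_of% vqy3 := (vqc1 r74 (vqc1 r75 (vqc1 r76 (vqc1 r77 (vqc1 r78 (vqc1 r79 vqy3))))));
    (vqc1 r69 (vqc1 r70 (vqc1 r71 (vqc1 r72 (vqc1 r73 vqy5)))))));
    (let vqy6 : type_of% vqy2 := (let vqy7 : type_of% vqy2 := (vqc1 r63 (vqc1 r64 (vqc1 r65 (vqc1 r66 (vqc1 r67 (vqc1 r68 vqy2))))));
    (vqc1 r57 (vqc1 r58 (vqc1 r59
    (vqc1 r60 (vqc1 r61 (vqc1 r62 vqy7)))))));
    (let vqy8 : type_of% vqy6 := (vqc1 r51 (vqc1 r52 (vqc1 r53 (vqc1 r54 (vqc1 r55 (vqc1 r56 vqy6))))));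
    (vqc1 r46 (vqc1 r47 (vqc1 r48 (vqc1 r49 (vqc1 r50 vqy8))))))));
    (let vqy9 : type_of% vqy1 := (let vqy10 : type_of% vqy1 := (let vqy11 : type_of% vqy1 := (vqc1 r40 (vqc1 r41 (vqc1 r42 (vqc1 r43 (vqc1 r44 (vqc1 r45 vqy1))))));
    (vqc1 r34 (vqc1 r35 (vqc1 r36 (vqc1 r37 (vqc1 r38
    (vqc1 r39 vqy11)))))));
    (let vqy12 : type_of% vqy10 := (vqc1 r28 (vqc1 r29 (vqc1 r30 (vqc1 r31 (vqc1 r32 (vqc1 r33 vqy10))))));
    (vqc1 r23 (vqc1 r24 (vqc1 r25 (vqc1 r26 (vqc1 r27 vqy12)))))));
    (let vqy13 : type_of% vqy9 := (let vqy14 : type_of% vqy9 := (vqc1 r17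
    (vqc1 r18 (vqc1 r19 (vqc1 r20 (vqc1 r21 (vqc1 r22 vqy9))))));
    (vqc1 r11 (vqc1 r12 (vqc1 r13 (vqc1 r14 (vqc1 r15 (vqc1 r16 vqy14)))))));
    (let vqy15 : type_of% vqy13 := (vqc1 r5 (vqc1 r6 (vqc1 r7 (vqc1 r8 (vqc1 r9 (vqc1 r10 vqy13))))));
    (vqc1 r0 (vqc1 r1 (vqc1 r2 (vqc1 r3 (vqc1 r4 vqy15))))))))))

/-- the norms -/
def nm : List ℕ :=
  (by
  refine (?fq9093 : ((pk61l (fun i1 => (pk61d (nat_lit 2) 
    (nat_lit 0xaaa5555555555555555555555555555555555555555555) i1)) (nat_lit 0) (nat_lit 92) List.nil) : List ℕ)
    = ?xq9093 → (List ℕ)) ?hq9093; (case hq9093 => (set_option maxRecDepth 1000000 in set_option simprocs false in conv => lhs; reduce; dsimp only)); intro _; exact ?xq9093 : List ℕ)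

/-- the degrees of the 98 irreducible characters -/
def degs : List ℕ :=
  (by
  refine (?fq9094 : ((pk61l (fun i1 => (pk61d (nat_lit 30) 
    (nat_lit 0x8562a951f7e67fa7d966521e14000078500001d9e0d3771a79dc559881d053fbbff1479d80051703e01407e4004cc8ea012a9b8e04aa6e3812a9b8e044ed808113a348044e8d20112648f84440d000fc480003f120000fbf33fd3ecb3290e93be0633ae9d80ce241cf3263d990c62ad1730972414a7f77fe29fddff89ed800027b6000091ed080247b42007f37eec175c0000599511012a9b8e04620000118800003ed2ee00dff4aa837fd2aa0da6900035bfd700d6ff5c03528a200b8489802dcf22e0a13f85026f2e6008f54e802197e6606ffa5541b256a006661380159881d051703e01427f0a04d85ec411f0e9e04440d000e65abe02e122600a2e07c0284fe1408afd00022bf400086064001c7d00006661380151b6d803bb8b6008dc1b0022206800772200019984e0033ee8800cfba20033194000cc65000319d6400c0b70002df08c004440d0010c0c8001b4d2000683dc000ee440001e2a000064ce00004f6c0000e0400000c380000001) i1)) (nat_lit 0) (nat_lit 98) List.nil) : List ℕ)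
    = ?xq9094 → (List ℕ)) ?hq9094; (case hq9094 => (set_option maxRecDepth 1000000 in set_option simprocs false in conv => lhs; reduce; dsimp only)); intro _; exact ?xq9094 : List ℕ)

/-- the constituents of the rows -/
def cs : List (List (ℕ × ℤ)) := (beta% delta% lq265f5a0dab81 fun _ vqc1 _ vqc3 _ _ _ vqc7 vqc8 =>
    (let vqy1 : type_of% (vqc7 _) := (let vqy2 : type_of% (vqc7 _) := (let vqy3 : type_of% (vqc7 _) := (let vqy4 : type_of% (vqc7 _) := (vqc1 (vqc1 (vqc8 14 1) (vqc1 (vqc8 15 1) vqc3)) (vqc1 (vqc1 (vqc8 16 1) (vqc1 (vqc8 17 1) vqc3)) (vqc1 (vqc1 (vqc8 27 1) (vqc1 (vqc8 28 1) vqc3)) (vqc1 (vqc1 (vqc8 61 1) (vqc1 (vqc8 62 1) vqc3)) (vqc1 (vqc1 (vqc8 79 1)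
    (vqc1 (vqc8 80 1) vqc3)) (vqc1 (vqc1 (vqc8 93 1) (vqc1 (vqc8 94 1) vqc3)) vqc3))))));
    (vqc1 (vqc1 (vqc8 90 1) vqc3) (vqc1 (vqc1 (vqc8 91 1) vqc3) (vqc1 (vqc1 (vqc8 92 1) vqc3) (vqc1 (vqc1 (vqc8 95 1) vqc3) (vqc1 (vqc1 (vqc8 96
    1) vqc3) (vqc1 (vqc1 (vqc8 97 1) vqc3) vqy4)))))));
    (let vqy5 : type_of% vqy3 := (vqc1 (vqc1 (vqc8 84 1) vqc3)
    (vqc1 (vqc1 (vqc8 85 1) vqc3) (vqc1 (vqc1 (vqc8 86 1) vqc3) (vqc1 (vqc1 (vqc8 87 1) vqc3) (vqc1 (vqc1 (vqc8 88 1) vqc3) (vqc1 (vqc1 (vqc8 89 1) vqc3) vqy3))))));
    (vqc1 (vqc1 (vqc8 77 1) vqc3) (vqc1 (vqc1 (vqc8 78 1) vqc3) (vqc1 (vqc1 (vqc8 81 1) vqc3) (vqc1 (vqc1 (vqc8 82 1) vqc3) (vqc1 (vqc1 (vqc8 83 1) vqc3) vqy5)))))));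
    (let vqy6 : type_of% vqy2 := (let vqy7 : type_of% vqy2 := (vqc1 (vqc1 (vqc8 71 1) vqc3) (vqc1 (vqc1 (vqc8 72 1) vqc3) (vqc1 (vqc1 (vqc8 73
    1) vqc3) (vqc1 (vqc1 (vqc8 74 1) vqc3) (vqc1 (vqc1 (vqc8 75 1) vqc3) (vqc1 (vqc1 (vqc8 76 1) vqc3) vqy2))))));
    (vqc1 (vqc1 (vqc8 65 1) vqc3) (vqc1 (vqc1 (vqc8 66 1) vqc3) (vqc1 (vqc1 (vqc8 67 1) vqc3) (vqc1 (vqc1 (vqc8 68 1) vqc3) (vqc1 (vqc1 (vqc8 69 1) vqc3) (vqc1 (vqc1 (vqc8 70 1) vqc3) vqy7)))))));
    (let vqy8 : type_of% vqy6 := (vqc1 (vqc1 (vqc8 57 1) vqc3) (vqc1 (vqc1 (vqc8 58 1) vqc3) (vqc1 (vqc1 (vqc8 59 1) vqc3) (vqc1 (vqc1 (vqc8 60 1) vqc3) (vqc1 (vqc1 (vqc8 63 1) vqc3)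
    (vqc1 (vqc1 (vqc8 64 1) vqc3) vqy6))))));
    (vqc1 (vqc1 (vqc8 52
    1) vqc3) (vqc1 (vqc1 (vqc8 53 1) vqc3) (vqc1 (vqc1 (vqc8 54 1) vqc3) (vqc1 (vqc1 (vqc8 55 1) vqc3) (vqc1 (vqc1 (vqc8 56 1) vqc3) vqy8))))))));
    (let vqy9 : type_of% vqy1 := (let vqy10 : type_of% vqy1 := (let vqy11 : type_of% vqy1 := (vqc1 (vqc1 (vqc8 46 1) vqc3) (vqc1 (vqc1 (vqc8 47 1) vqc3) (vqc1 (vqc1 (vqc8 48 1) vqc3) (vqc1 (vqc1 (vqc8 49 1) vqc3) (vqc1 (vqc1 (vqc8 50 1) vqc3) (vqc1 (vqc1 (vqc8 51 1) vqc3) vqy1))))));
    (vqc1 (vqc1 (vqc8 40 1) vqc3) (vqc1 (vqc1 (vqc8 41 1) vqc3) (vqc1 (vqc1 (vqc8 42 1) vqc3)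
    (vqc1 (vqc1 (vqc8 43 1) vqc3) (vqc1 (vqc1 (vqc8 44 1) vqc3) (vqc1 (vqc1 (vqc8 45 1) vqc3) vqy11)))))));
    (let vqy12 : type_of% vqy10 := (vqc1 (vqc1 (vqc8 34 1) vqc3) (vqc1 (vqc1 (vqc8 35 1) vqc3) (vqc1 (vqc1 (vqc8 36 1) vqc3) (vqc1 (vqc1 (vqc8 37 1) vqc3) (vqc1 (vqc1 (vqc8 38 1) vqc3) (vqc1 (vqc1 (vqc8 39 1) vqc3) vqy10))))));
    (vqc1 (vqc1 (vqc8 29 1) vqc3) (vqc1 (vqc1 (vqc8 30 1) vqc3) (vqc1 (vqc1 (vqc8 31 1) vqc3) (vqc1 (vqc1 (vqc8 32 1) vqc3) (vqc1 (vqc1 (vqc8 33
    1) vqc3) vqy12)))))));
    (let vqy13 : type_of% vqy9 := (let vqy14 : type_of% vqy9 := (vqc1 (vqc1 (vqc8 21 1) vqc3)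
    (vqc1 (vqc1 (vqc8 22 1) vqc3) (vqc1 (vqc1 (vqc8 23 1) vqc3) (vqc1 (vqc1 (vqc8 24 1) vqc3) (vqc1 (vqc1 (vqc8 25 1) vqc3) (vqc1 (vqc1 (vqc8 26 1) vqc3) vqy9))))));
    (vqc1 (vqc1 (vqc8 11 1) vqc3) (vqc1 (vqc1 (vqc8 12 1) vqc3) (vqc1 (vqc1 (vqc8 13 1) vqc3) (vqc1 (vqc1 (vqc8 18 1) vqc3) (vqc1 (vqc1 (vqc8 19 1) vqc3) (vqc1 (vqc1 (vqc8 20 1) vqc3) vqy14)))))));
    (let vqy15 : type_of% vqy13 := (vqc1 (vqc1 (vqc8 5 1) vqc3) (vqc1 (vqc1 (vqc8 6 1) vqc3) (vqc1 (vqc1 (vqc8 7 1) vqc3)
    (vqc1 (vqc1 (vqc8 8 1) vqc3) (vqc1 (vqc1 (vqc8 9 1) vqc3) (vqc1 (vqc1 (vqc8 10 1) vqc3) vqy13))))));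
    (vqc1 (vqc1 (vqc8 0 1) vqc3) (vqc1 (vqc1 (vqc8 1 1) vqc3) (vqc1 (vqc1 (vqc8 2 1) vqc3) (vqc1 (vqc1 (vqc8 3 1) vqc3) (vqc1 (vqc1 (vqc8 4 1) vqc3) vqy15))))))))))

/-- the table -/
def R : Rows := ⟨degs, List.zip cs rows⟩

/-- the primes and the nontrivial sections -/
def PL : List (ℕ × ℕ × List ℕ) :=
  (by
  refine (?fq9095 : ((pk61l (fun i1 => (_root_.Prod.mk (pk61d (nat_lit 5) 
    (nat_lit 0xbc5ab39462) i1) (_root_.Prod.mk (pk61d (nat_lit 5) 
    (nat_lit 0x8421089b2) i1) ((fun g1 : Nat → Nat => pk61l (fun i2 => (pk61d (nat_lit 7) 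
    (nat_lit 0x383000c100343058706080353668c98162438506080808ee5ba64a90f1d386c60b1424403040404876e9ba746890a03e6c6070c14200) i2)) (g1 i1) (g1 (Nat.succ i1)) List.nil) fun j => (pk61d (nat_lit 7) 
    (nat_lit 0x407ef9db86290880) j))))) (nat_lit 0) (nat_lit 8) List.nil) : List (ℕ × ℕ × List ℕ))
    = ?xq9095 → (List (ℕ × ℕ × List ℕ))) ?hq9095; (case hq9095 => (set_option maxRecDepth 1000000 in set_option simprocs false in conv => lhs; reduce; dsimp only)); intro _; exact ?xq9095 : List (ℕ × ℕ × List ℕ))

/-- the prime powers -/
def PP : List (ℕ × ℕ) := (beta% delta% lq265f5a0dab81 fun _ vqc1 _ vqc3 _ _ _ _ vqc8 =>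
    (vqc1 (vqc8 2 18) (vqc1 (vqc8 3 13) (vqc1 (vqc8 5 2) (vqc1 (vqc8 7 1) (vqc1 (vqc8 11 1) (vqc1 (vqc8 13 1) (vqc1 (vqc8 17 1) (vqc1 (vqc8 23 1) vqc3)))))))))

theorem len : D.cntL.length = D.n := by decide +kernel

theorem cnt_pos : ∀ i < D.n, 0 < D.cnt i := by decide +kernel

theorem okPL : okPrimes D PL = true := by decide +kernel

theorem orth : Orth D rows nm := fun i hi j hj => by
  rw [← ip_eq len, ip, Pk.gram (E := nm.map (Nat.mul D.N)) (by decide +kernel) i hi j hj, ← Pk.ntd_getD]
  exact congrArg (fun x : ℤ => if i = j then x else 0)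
    ((congrArg Nat.cast (Pk.ntd_map (Nat.mul D.N) nm 0 i)).trans (Nat.cast_mul _ _))

theorem okTab : Sm1.okR D R = true := Pk.tab_of (by decide +kernel)

theorem okVan : vanB D R PP 4 39 75 = true := by decide +kernel

theorem okOdd : ((List.range R.n).all fun j => R.d j % 2 == 0 || fixB R [] j) = true := by decide +kernel

end Cfsg.Agent.TAB.F23
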