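import Cfsg.Agent.TAB.F23.Tab
import Cfsg.Agent.TAB.Sm1.Fin_m3
set_option linter.all false

-- part: TAB/F23/C0
section
set_option linter.all false

/-- decoders of the packed data (elaboration time only) -/
private noncomputable def pk61d (b S i : Nat) : Nat := Nat.mod (Nat.shiftRight S (Nat.mul b i)) (Nat.shiftLeft (nat_lit 1) b)
private noncomputable def pk61c {α : Type} (t : Nat) (a : α) (f : Nat → α) : α := Nat.rec a (fun k _ => f k) t
private noncomputable def pk61f {α : Type} (t : Nat) (f : Nat → α) : α := Nat.rec (f Nat.zero) (fun k _ => f (Nat.succ k)) t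
private noncomputable def pk61z (t : Nat) : Int := pk61f t fun t =>
  pk61c (Nat.mod t (nat_lit 2)) (Int.ofNat (Nat.div t (nat_lit 2))) fun _ => Int.negSucc (Nat.div t (nat_lit 2))
private noncomputable def pk61l {α : Type} (f : Nat → α) (s e : Nat) (tl : List α) : List α :=
  pk61f e fun e => Nat.rec tl (fun k ih => List.cons (pk61f (Nat.sub e (Nat.succ k)) f) ih) (Nat.sub e s)

/-!
# `Fi₂₃` : seeds, and the sections in which they generate everything (helper12, TAB; generated by `notes/TAB/F23/gen.py.txt`)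
-/

set_option autoImplicit false
set_option maxRecDepth 100000

namespace Cfsg.Agent.TAB.F23

open Cfsg Cfsg.Agent.TAB.Eng Cfsg.Agent.TAB.Use Cfsg.Agent.TAB.Glue

/-- the trivial character -/
def ones : List ℤ := List.replicate 92 1

/-- a seed -/
noncomputable def s1_0 : List ℤ :=
  (by
  refine (?fq9001 : ((pk61l (fun i1 => (pk61z (pk61d (nat_lit 31) 
    (nat_lit 0x7792b9a202f06344003af688001e1410003342000020b44000239880003f0100001f020000228400003f4800005f100000ab20000144000001e080000310000005b2000006e400000c800000144000001c200000240000003c80000064000000a2000000c4000001200000019000000200000002400000020000000100000000) (pk61d (nat_lit 6) 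
    (nat_lit 0x5000400000000820000400410020810c10001c51030810010061020c030b2c71040c30c30c104108a1430003480c71c32595d64d138c30b28820304f61548775c6907de6e0) i1)))) (nat_lit 0) (nat_lit 92) List.nil) : List ℤ)
    = ?xq9001 → (List ℤ)) ?hq9001; (case hq9001 => (set_option maxRecDepth 1000000 in conv => lhs; reduce)); intro _; exact ?xq9001 : List ℤ)

/-- a seed -/
noncomputable def s1_1 : List ℤ :=
  (by
  refine (?fq9002 : ((pk61l (fun i1 => (pk61z (pk61d (nat_lit 50) 
    (nat_lit 0xcfebdfc115c00000061740000000003da33b80000001b72c00000000124f080000000397b0000000000a5600000000021c000000000034bc0000000006c00000000000d8000000000033300000000002d000000000006c000000000016800000000003600000000000a00000000000120000000000024000000000003000000000000800000000000180000000000010000000000000) (pk61d (nat_lit 5) 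
    (nat_lit 0x1000000000000000014001000000000010a000000180800012b100043820070008335000140c0440aad26f05a57) i1)))) (nat_lit 0) (nat_lit 92) List.nil) : List ℤ)
    = ?xq9002 → (List ℤ)) ?hq9002; (case hq9002 => (set_option maxRecDepth 1000000 in conv => lhs; reduce)); intro _; exact ?xq9002 : List ℤ)

/-- a seed -/
noncomputable def s1_2 : List ℤ :=
  (by
  refine (?fq9003 : ((pk61l (fun i1 => (pk61z (pk61d (nat_lit 54) 
    (nat_lit 0x9a400dd9f8568800149dfcbcda2000001b35de688000000d83e7000000000dd9068800000001338c00000000021b508000000001a9e200000000066840000000001878000000000012708000000000196200000000005c880000000001440000000000014400000000000192000000000003c00000000000072000000000001080000000000024000000000000480000000000008000000000000080000000000000) (pk61d (nat_lit 5) 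
    (nat_lit 0x8000008401840000000000010008218000000000000000000120a300000018c338000049c0028000012b8c1ac0500fb5677) i1)))) (nat_lit 0) (nat_lit 92) List.nil) : List ℤ)
    = ?xq9003 → (List ℤ)) ?hq9003; (case hq9003 => (set_option maxRecDepth 1000000 in conv => lhs; reduce)); intro _; exact ?xq9003 : List ℤ)

/-- a seed -/
noncomputable def s1_3 : List ℤ :=
  (by
  refine (?fq9004 : ((pk61l (fun i1 => (pk61z (pk61d (nat_lit 30) 
    (nat_lit 0xef2384640bb9d19001b8c64001dfe10006632c00046a90000f6840000cc900001d84000074100001c6400005390000134400003cb00000af400001cb0000068c00001310000042400000b4000002c400000860000020c000007e000001ac000006300000164000004b0000011c0000036000000d4000002700000074000001a0000005000000120000003c000000e00000030000000a0000002400000060000001400000040000000c0000002000000040000000) (pk61d (nat_lit 6) 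
    (nat_lit 0x8c20000020000820800840820010400c400040b08028200200f14614d6d95c134314618608a2020560c90007931471c15699a78a051855c29244c39fa2475ab2baa1bad96f) i1)))) (nat_lit 0) (nat_lit 92) List.nil) : List ℤ)
    = ?xq9004 → (List ℤ)) ?hq9004; (case hq9004 => (set_option maxRecDepth 1000000 in conv => lhs; reduce)); intro _; exact ?xq9004 : List ℤ)

/-- a seed -/
noncomputable def s1_4 : List ℤ :=
  (by
  refine (?fq9005 : ((pk61l (fun i1 => (pk61z (pk61d (nat_lit 49) 
    (nat_lit 0x24e5f8ff3000400321b44800200001245c001000001238760800000051000400000013ef02000000066841000000005e80800000000510400000000120200000000009100000000000c8000000000004000000000000) (pk61d (nat_lit 4) 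
    (nat_lit 0x101111000011111111110011111111110011113111111111111110001111111128551111111111106141a171cb9d) i1)))) (nat_lit 0) (nat_lit 92) List.nil) : List ℤ)
    = ?xq9005 → (List ℤ)) ?hq9005; (case hq9005 => (set_option maxRecDepth 1000000 in conv => lhs; reduce)); intro _; exact ?xq9005 : List ℤ)

/-- a seed -/
noncomputable def s1_5 : List ℤ :=
  (by
  refine (?fq9006 : ((pk61l (fun i1 => (pk61z (pk61d (nat_lit 78) 
    (nat_lit 0x2277d1fcda84883461190000497155b291d8746400000007dd8345c6319000000001113dd5895840000000000266485ca1000000000007130c04a4000000000008fce871900000000000025c4bb2400000000000009587e1000000000000024bff040000000000000095b090000000000000006632c00000000000000064d10000000000000000232400000000000000005390000000000000000134400000000000000003cb00000000000000000af400000000000000001cb000000000000000004c400000000000000000b4000000000000000002180000000000000000083000000000000000001f8000000000000000006b00000000000000000164000000000000000004b0000000000000000011c0000000000000000036000000000000000000d4000000000000000002700000000000000000068000000000000000001400000000000000000048000000000000000000f00000000000000000038000000000000000000a0000000000000000002400000000000000000060000000000000000001400000000000000000040000000000000000000c0000000000000000002000000000000000000040000000000000000000)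 (pk61d (nat_lit 6) 
    (nat_lit 0x74000000200000008008408200104000000038a08024200200014614c8165013031461860892020400000006511471c17e88e471a4954d82503cb34095e897a619dbaea9ac) i1)))) (nat_lit 0) (nat_lit 92) List.nil) : List ℤ)
    = ?xq9006 → (List ℤ)) ?hq9006; (case hq9006 => (set_option maxRecDepth 1000000 in conv => lhs; reduce)); intro _; exact ?xq9006 : List ℤ)

/-- a seed -/
noncomputable def s1_6 : List ℤ :=
  (by
  refine (?fq9007 : ((pk61l (fun i1 => (pk61z (pk61d (nat_lit 78) 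
    (nat_lit 0x22f00844d4e69d3bf11900004b53dfddd098a46400000007ee17ade7719000000000014efed3c64000000000000a78be09000000000000193a7bfc0000000000000094349000000000000001115fc00000000000000088af000000000000000206e40000000000000000d7f0000000000000000301800000000000000008c9000000000000000014400000000000000000090000000000000000000780000000000000000006000000000000000000140000000000000000002000000000000000000040000000000000000000) (pk61d (nat_lit 5) 
    (nat_lit 0x4010000004200000000000000020006419800000000000000000080000000001085400000354000000000e082dc903c0c9ca34) i1)))) (nat_lit 0) (nat_lit 92) List.nil) : List ℤ)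
    = ?xq9007 → (List ℤ)) ?hq9007; (case hq9007 => (set_option maxRecDepth 1000000 in conv => lhs; reduce)); intro _; exact ?xq9007 : List ℤ)

/-- a seed -/
noncomputable def s1_7 : List ℤ :=
  (by
  refine (?fq9008 : ((pk61l (fun i1 => (pk61z (pk61d (nat_lit 43) 
    (nat_lit 0x8b05b4342000000c2e800000005c76900000013c6800000009f420000000bf4000000002f4000000004380000000045300000000360000000004800000000088800000000480000000006c00000000090000000000a000000000120000000001200000000018000000000180000000002000000000030000000000200000000000) (pk61d (nat_lit 5) 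
    (nat_lit 0x1000000000000000014001000000000014e000000180800012b1000540200700093b5400180c0440bad26f05a57) i1)))) (nat_lit 0) (nat_lit 92) List.nil) : List ℤ)
    = ?xq9008 → (List ℤ)) ?hq9008; (case hq9008 => (set_option maxRecDepth 1000000 in conv => lhs; reduce)); intro _; exact ?xq9008 : List ℤ)

/-- a seed -/
noncomputable def s1_8 : List ℤ :=
  (by
  refine (?fq9009 : ((pk61l (fun i1 => (pk61z (pk61d (nat_lit 35) 
    (nat_lit 0x6013a27000003180000002b3b8000009280000006b60000009600000003600000004800000007d0000000480000000780000000e8000000120000000180000000290000000480000000800000000c00000001700000001c0000000340000000600000000500000000800000000c00000001000000001000000001000000000) (pk61d (nat_lit 5) 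
    (nat_lit 0x1000200080100000080020008000000200201980218000000e001da000000180a07254c18007402a09820b5ca0001c110580fd671406efc) i1)))) (nat_lit 0) (nat_lit 92) List.nil) : List ℤ)
    = ?xq9009 → (List ℤ)) ?hq9009; (case hq9009 => (set_option maxRecDepth 1000000 in conv => lhs; reduce)); intro _; exact ?xq9009 : List ℤ)

/-- a seed -/
noncomputable def s1_9 : List ℤ :=
  (by
  refine (?fq9010 : ((pk61l (fun i1 => (pk61z (pk61d (nat_lit 48) 
    (nat_lit 0xf0d26997336e000a31cfbf6e00000756196e000000e6a900000000558d6e000000038f40000000018a3e0000000088b0000000005e80000000004b4e000000000dfe000000000a0e0000000006c000000000051000000000037200000000006600000000003c00000000001e00000000001200000000000c000000000006000000000004000000000002000000000000) (pk61d (nat_lit 5) 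
    (nat_lit 0x8000008401840000000000010008218000000000000000000120a300000018c338000049e002c00001498b9ac05010b5677) i1)))) (nat_lit 0) (nat_lit 92) List.nil) : List ℤ)
    = ?xq9010 → (List ℤ)) ?hq9010; (case hq9010 => (set_option maxRecDepth 1000000 in conv => lhs; reduce)); intro _; exact ?xq9010 : List ℤ)

/-- a seed -/
noncomputable def s1_10 : List ℤ :=
  (by
  refine (?fq9011 : ((pk61l (fun i1 => (pk61z (pk61d (nat_lit 44) 
    (nat_lit 0x8134be40a02001f253a402000009a000200000361b00000000d4e020000000b64000000007fc200000002d9000000001b00000000013c200000000d800000000064200000000510000000002be000000000900000000002a00000000012000000000060000000000200000000000) (pk61d (nat_lit 5) 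
    (nat_lit 0x200002008000084201040000000000210004111405000000000000000090433800000c63200000396002400000e66a9080400c945f3) i1)))) (nat_lit 0) (nat_lit 92) List.nil) : List ℤ)
    = ?xq9011 → (List ℤ)) ?hq9011; (case hq9011 => (set_option maxRecDepth 1000000 in conv => lhs; reduce)); intro _; exact ?xq9011 : List ℤ)

/-- a seed -/
noncomputable def s1_11 : List ℤ :=
  (by
  refine (?fq9012 : ((pk61l (fun i1 => (pk61z (pk61d (nat_lit 49) 
    (nat_lit 0x991d3aaa98000000013e866000000021c7f000000004bf00000000008380000000000242000000000051000000000012000000000006c000000000021800000000008e00000000001a000000000004000000000001c00000000000700000000000200000000000040000000000010000000000004000000000000) (pk61d (nat_lit 5) 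
    (nat_lit 0x1000200000100000080020000000000000201900018000000000000000000180004950718000300006800b000000000a0000c945ee00213) i1)))) (nat_lit 0) (nat_lit 92) List.nil) : List ℤ)
    = ?xq9012 → (List ℤ)) ?hq9012; (case hq9012 => (set_option maxRecDepth 1000000 in conv => lhs; reduce)); intro _; exact ?xq9012 : List ℤ)

/-- a seed -/
noncomputable def s1_12 : List ℤ :=
  (by
  refine (?fq9013 : ((pk61l (fun i1 => (pk61z (pk61d (nat_lit 53) 
    (nat_lit 0x60dbad9de1ddb80044e57e336dc00000b6b9856e000000daa59df00000001e605b800000004fbdfc0000000046e7e00000000028af000000000048f80000000000510000000000010e000000000002d0000000000013800000000000940000000000048000000000001c000000000000d800000000000500000000000024000000000000f00000000000060000000000002c00000000000140000000000009000000000000380000000000014000000000000800000000000030000000000001000000000000040000000000000) (pk61d (nat_lit 5) 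
    (nat_lit 0x8802000000000000802100841000003148310401000821816a5188418c63184211000000187198c3466f383dab5a92738c20c4ac6dd68eef35e) i1)))) (nat_lit 0) (nat_lit 92) List.nil) : List ℤ)
    = ?xq9013 → (List ℤ)) ?hq9013; (case hq9013 => (set_option maxRecDepth 1000000 in conv => lhs; reduce)); intro _; exact ?xq9013 : List ℤ)

/-- a seed -/
noncomputable def s1_13 : List ℤ :=
  (by
  refine (?fq9014 : ((pk61l (fun i1 => (pk61z (pk61d (nat_lit 54) 
    (nat_lit 0x2abd2e1927670000000193bc00000000008520c0000000004752c00000000000b6400000000001e6000000000005100000000000040200000000000d8000000000001b00000000000051000000000000210000000000003000000000000060000000000000c000000000000200000000000004000000000000080000000000000) (pk61d (nat_lit 5) 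
    (nat_lit 0x200000000000080000000000000000200000220000000000000000000180a040000000063800000180028000000b034090400e045f2) i1)))) (nat_lit 0) (nat_lit 92) List.nil) : List ℤ)
    = ?xq9014 → (List ℤ)) ?hq9014; (case hq9014 => (set_option maxRecDepth 1000000 in conv => lhs; reduce)); intro _; exact ?xq9014 : List ℤ)

/-- a seed -/
noncomputable def s1_14 : List ℤ :=
  (by
  refine (?fq9015 : ((pk61l (fun i1 => (pk61z (pk61d (nat_lit 61) 
    (nat_lit 0x12eae7e8d55c00000000000032a0000000000000601bc00000000000001b00000000000000000) (pk61d (nat_lit 3) 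
    (nat_lit 0x100000001001c) i1)))) (nat_lit 0) (nat_lit 92) List.nil) : List ℤ)
    = ?xq9015 → (List ℤ)) ?hq9015; (case hq9015 => (set_option maxRecDepth 1000000 in conv => lhs; reduce)); intro _; exact ?xq9015 : List ℤ)

/-- a seed -/
noncomputable def s1_15 : List ℤ :=
  (by
  refine (?fq9016 : ((pk61l (fun i1 => (pk61z (pk61d (nat_lit 60) 
    (nat_lit 0xe302deea0050000000000004bf0000000000000028800000000000000180000000000000000) (pk61d (nat_lit 3) 
    (nat_lit 0x800000000000008000001c) i1)))) (nat_lit 0) (nat_lit 92) List.nil) : List ℤ)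
    = ?xq9016 → (List ℤ)) ?hq9016; (case hq9016 => (set_option maxRecDepth 1000000 in conv => lhs; reduce)); intro _; exact ?xq9016 : List ℤ)

/-- a seed -/
noncomputable def s1_16 : List ℤ :=
  (by
  refine (?fq9017 : ((pk61l (fun i1 => (pk61z (pk61d (nat_lit 60) 
    (nat_lit 0x97573f46aae00000000000032a000000000000004ce300000000000030000000000000001b0000000000000030000000000000000) (pk61d (nat_lit 3) 
    (nat_lit 0x100000000000000000008000300402e) i1)))) (nat_lit 0) (nat_lit 92) List.nil) : List ℤ)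
    = ?xq9017 → (List ℤ)) ?hq9017; (case hq9017 => (set_option maxRecDepth 1000000 in conv => lhs; reduce)); intro _; exact ?xq9017 : List ℤ)

/-- a seed -/
noncomputable def s1_17 : List ℤ :=
  (by
  refine (?fq9018 : ((pk61l (fun i1 => (pk61z (pk61d (nat_lit 60) 
    (nat_lit 0x97573f46aae00000000001114eea000000000032a000000000000001b000000000000003600000000000000900000000000000000) (pk61d (nat_lit 3) 
    (nat_lit 0x80000000000000000020000000c0a00026) i1)))) (nat_lit 0) (nat_lit 92) List.nil) : List ℤ)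
    = ?xq9018 → (List ℤ)) ?hq9018; (case hq9018 => (set_option maxRecDepth 1000000 in conv => lhs; reduce)); intro _; exact ?xq9018 : List ℤ)

/-- a seed -/
noncomputable def s1_18 : List ℤ :=
  (by
  refine (?fq9019 : ((pk61l (fun i1 => (pk61z (pk61d (nat_lit 60) 
    (nat_lit 0x97573f46aae00000000000032a000000000000004ce3000000000001b0000000000000001b0000000000000090000000000000000) (pk61d (nat_lit 3) 
    (nat_lit 0x2000000000000000000000000800c000402e) i1)))) (nat_lit 0) (nat_lit 92) List.nil) : List ℤ)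
    = ?xq9019 → (List ℤ)) ?hq9019; (case hq9019 => (set_option maxRecDepth 1000000 in conv => lhs; reduce)); intro _; exact ?xq9019 : List ℤ)

/-- a seed -/
noncomputable def s1_19 : List ℤ :=
  (by
  refine (?fq9020 : ((pk61l (fun i1 => (pk61z (pk61d (nat_lit 59) 
    (nat_lit 0x528cae268bc0000000155a2a4800000000000000000a00000000000000a000000000000000) (pk61d (nat_lit 3) 
    (nat_lit 0x40000000000000000000000000400000000000000000000000000604) i1)))) (nat_lit 0) (nat_lit 92) List.nil) : List ℤ)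
    = ?xq9020 → (List ℤ)) ?hq9020; (case hq9020 => (set_option maxRecDepth 1000000 in conv => lhs; reduce)); intro _; exact ?xq9020 : List ℤ)

/-- a seed -/
noncomputable def s1_20 : List ℤ :=
  (by
  refine (?fq9021 : ((pk61l (fun i1 => (pk61z (pk61d (nat_lit 59) 
    (nat_lit 0x434338912f8000000000001cd5200000000000000798000000000000012000000000000000) (pk61d (nat_lit 3) 
    (nat_lit 0x10000000000000000000000000000000004000000000000000000000c0004) i1)))) (nat_lit 0) (nat_lit 92) List.nil) : List ℤ)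
    = ?xq9021 → (List ℤ)) ?hq9021; (case hq9021 => (set_option maxRecDepth 1000000 in conv => lhs; reduce)); intro _; exact ?xq9021 : List ℤ)

/-- a seed -/
noncomputable def s1_21 : List ℤ :=
  (by
  refine (?fq9022 : ((pk61l (fun i1 => (pk61z (pk61d (nat_lit 58) 
    (nat_lit 0xc9c9a9b38e80000000000f3a2000000000002b3fb0000000000009d800000000000028800000000000007980000000000009000000000000004800000000000006000000000000000) (pk61d (nat_lit 4) 
    (nat_lit 0x100000000000000000000002000000003000000000000000000004000000000005000000000600007000809) i1)))) (nat_lit 0) (nat_lit 92) List.nil) : List ℤ)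
    = ?xq9022 → (List ℤ)) ?hq9022; (case hq9022 => (set_option maxRecDepth 1000000 in conv => lhs; reduce)); intro _; exact ?xq9022 : List ℤ)

/-- the program for the seeds -/
noncomputable def slp1 : List (List ℤ × Sm1.Op) := [(s1_0, .mul 0 0), (s1_1, .coad 2 2), (s1_2, .coad 2 3), (s1_3, .del 0 2),
    (s1_4, .coad 1 5), (s1_5, .mul 5 6), (s1_6, .coad 7 3), (s1_7, .coad 0 2), (s1_8, .coad 1 2), (s1_9, .coad 0
    3), (s1_10, .coad 1 3), (s1_11, .coad 1 4), (s1_12, .coad 0 5), (s1_13, .coad 1 6), (s1_14, .cyc 16),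
    (s1_15, .cyc 29), (s1_16, .cyc 40), (s1_17, .cyc 45), (s1_18, .cyc 47), (s1_19, .cyc 74), (s1_20, .cyc 80),
    (s1_21, .cyc 86)]

/-- the seeds -/
noncomputable def seeds1 : List (List ℤ) := [sd1, ones] ++ slp1.map Prod.fst

/-- certificates -/
noncomputable def c0_2_0 : ℕ × ℕ × List Cert :=
  (by
  refine (?fq9023 : ((_root_.Prod.mk (nat_lit 2) (_root_.Prod.mk (nat_lit 18) (pk61l (fun i1 => (_root_.Cfsg.Agent.TAB.Eng.Cert.mk (pk61d (nat_lit 6) 
    (nat_lit 0x8e07db305) i1) ((fun g1 : Nat → Nat => pk61l (fun i2 => (pk61f (pk61d (nat_lit 5) 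
    (nat_lit 0x737a8a819c5ed04a015a1c139460f3140f7358b539ac20c0941cc520c4102c4a4a0e60948310400) i2) fun u15 => (pk61f (pk61d (nat_lit 2) 
    (nat_lit 0x3f93fe53d3fe53ffea53ffffe6aa6aa9) i2) fun t2_5 => (pk61c (Nat.div t2_5 (nat_lit 2)) (pk61c (Nat.div t2_5 (nat_lit 1)) _root_.Cfsg.Agent.TAB.Eng.Op.one fun _ => (_root_.Cfsg.Agent.TAB.Eng.Op.gen (pk61d (nat_lit 4) 
    (nat_lit 0xa00040c0000) u15) (nat_lit 1) (pk61d (nat_lit 2) 
    (nat_lit 0x40024) u15))) fun _ => (pk61c (Nat.div t2_5 (nat_lit 3)) (_root_.Cfsg.Agent.TAB.Eng.Op.mul (pk61d (nat_lit 4) 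
    (nat_lit 0x11211d43987543210) u15) (pk61d (nat_lit 2) 
    (nat_lit 0x143c0000) u15)) fun _ => (_root_.Cfsg.Agent.TAB.Eng.Op.lin ((fun g2 : Nat → Nat => pk61l (fun i3 => (_root_.Prod.mk (pk61d (nat_lit 18) 
    (nat_lit 0x79c19e47df3ee20000755558000c00010001bffee00007ffeffff40009000005ffff8000c00019c71c000264b19eb8533335851c70a60000100007fffff9cb418d3bc23c83a9ee86cd1ade6be5941efffeb43aae35178d41c8beea00427c3228abfa02471c72aaaf5555959ff668a657e725ed3684c8e39dc71c7243efe0b89647a6584de76eeb58babf39f90cb2a780d6745727c1e7cc7d9e1be40cfcd73e98cea1eba1c6567074d84e460238d19bc5c2a7dd90d5bfe8e2b38b53effc3dac5cff571ef911f9d590d570f940ee9ef96ae2d713f008dc7070821d2b0f6d2fd3) i3) (pk61d (nat_lit 4) 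
    (nat_lit 0x4201645234012320163523012a89674567234560123459897896789567894567893456789234567891234567890123456789) i3))) (g2 u15) (g2 (Nat.succ u15)) List.nil) fun j => (pk61d (nat_lit 7) 
    (nat_lit 0x3263c582fddb55aad3a54274b95223427addb3462b5422364c500) j)))))))) (g1 i1) (g1 (Nat.succ i1)) List.nil) fun j => (pk61d (nat_lit 6) 
    (nat_lit 0x3fe71b65640) j)) ((fun g1 : Nat → Nat => pk61l (fun i2 => (_root_.Prod.mk (pk61d (nat_lit 4) 
    (nat_lit 0x10232101010323210549430218675) i2) (pk61d (nat_lit 8) 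
    (nat_lit 0x802010804020102010802020110080402020180104008080404020201) i2))) (g1 i1) (g1 (Nat.succ i1)) List.nil) fun j => (pk61d (nat_lit 5) 
    (nat_lit 0x7756a4140) j)))) (nat_lit 0) (nat_lit 6) List.nil))) : ℕ × ℕ × List Cert)
    = ?xq9023 → (ℕ × ℕ × List Cert)) ?hq9023; (case hq9023 => (set_option maxRecDepth 1000000 in conv => lhs; reduce)); intro _; exact ?xq9023 : ℕ × ℕ × List Cert)

/-- certificates -/
def c0_2_1 : ℕ × ℕ × List Cert := (2, 18, [⟨39, [.one, .gen 10 1 0, .gen 21 1 0, .lin [(262143, 1), (52429, 0)],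
    .lin [(4, 3), (196607, 2)], .lin [(1, 4)]], [(0, 1), (1, 4), (2, 2)]⟩,
⟨55, [.one, .gen 0 1 0, .lin [(131075, 1), (131071, 0)], .lin [(1, 2)]], [(0, 1), (1, 2)]⟩,
⟨58, [.one, .gen 0 1 0, .mul 0 0, .gen 10 1 0, .lin [(174766, 2), (240297, 1), (4, 0)], .lin [(52429, 1)], .lin
    [(2, 5), (131071, 4)], .lin [(1, 6)]], [(2, 1), (3, 2), (0, 2), (1, 8)]⟩,
⟨59, [.one, .gen 0 3 0, .lin [(43693, 1), (160199, 0)], .lin [(1, 2)]], [(0, 1), (1, 2)]⟩,
⟨72, [.one, .gen 3 1 0, .lin [(2, 1), (131071, 0)], .lin [(1, 2)]], [(0, 1), (1, 2)]⟩])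

/-- certificates -/
noncomputable def c0_3_0 : ℕ × ℕ × List Cert :=
  (by
  refine (?fq9025 : ((_root_.Prod.mk (nat_lit 3) (_root_.Prod.mk (nat_lit 13) (pk61l (fun i1 => (_root_.Cfsg.Agent.TAB.Eng.Cert.mk (pk61d (nat_lit 5) 
    (nat_lit 0xe6d8b4a062) i1) ((fun g1 : Nat → Nat => pk61l (fun i2 => (pk61f (pk61d (nat_lit 6) 
    (nat_lit 0x2180e01f78d01d71b38c01a6585d62cd30a0155132c90124503ce20728600d30b2892071852442031c6144085103081003081040000) i2) fun u15 => (pk61f (pk61d (nat_lit 2) 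
    (nat_lit 0x3d3d3f93ff693f93ff593fffd99aa7ffe9a4) i2) fun t2_5 => (pk61c (Nat.div t2_5 (nat_lit 2)) (pk61c (Nat.div t2_5 (nat_lit 1)) _root_.Cfsg.Agent.TAB.Eng.Op.one fun _ => (_root_.Cfsg.Agent.TAB.Eng.Op.gen (pk61d (nat_lit 5) 
    (nat_lit 0x60b80125000058140) u15) (pk61d (nat_lit 2) 
    (nat_lit 0x15555655) u15) (pk61d (nat_lit 1) 
    (nat_lit 0x20) u15))) fun _ => (pk61c (Nat.div t2_5 (nat_lit 3)) (_root_.Cfsg.Agent.TAB.Eng.Op.mul (pk61d (nat_lit 3) 
    (nat_lit 0x80056882c8) u15) (pk61d (nat_lit 1) 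
    (nat_lit 0x8) u15)) fun _ => (_root_.Cfsg.Agent.TAB.Eng.Op.lin ((fun g2 : Nat → Nat => pk61l (fun i3 => (_root_.Prod.mk (pk61d (nat_lit 21) 
    (nat_lit 0x181bf080000c0000357f342d4a080000433e60e98b67d1cd5efe240001200001000009e68cac99ae614f46852dbff02086aa8dce815af6aa7eaf54abcb5f84c4c27b0000051d712f684db10cb959fe2a3c2e00001206fc511778206fc40e78a22af2276c1037e5037e1288bbe14f4400015853cb00000a88bb6b9f785137c48cafa62b39c8a9e2c1ac18b06a2db405082c74c9136320a80540a81265d8baaaf642488821470ac988b4b58fcecd32f3b32b5cfa3938594f838e1d02dd0cac009f485928f59cd02c7a40df8bf457ac0cb80000100000e14f44fe80a7cc194d5949244c6be42a17ac11bf11979dee09e14fee13008a23beb50f87d344534832d0114fa9405c25eca2) i3) (pk61d (nat_lit 4) 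
    (nat_lit 0x201201423012862561345012344230128672562451234c657a469b35689234578123467801234567b9a589467813567123456) i3))) (g2 u15) (g2 (Nat.succ u15)) List.nil) fun j => (pk61d (nat_lit 7) 
    (nat_lit 0x197262c37ef5cb362bd4a12e5488b1213f78e1bb666bd5243a54a121e2c300) j)))))))) (g1 i1) (g1 (Nat.succ i1)) List.nil) fun j => (pk61d (nat_lit 7) 
    (nat_lit 0x4786fdcaf527c680) j)) ((fun g1 : Nat → Nat => pk61l (fun i2 => (_root_.Prod.mk (pk61d (nat_lit 3) 
    (nat_lit 0x82110c231111a210eceb1066c) i2) (pk61d (nat_lit 15) 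
    (nat_lit 0x99c60b640798051003600240018001) (pk61d (nat_lit 3) 
    (nat_lit 0x821111121108923d8d1233648) i2)))) (g1 i1) (g1 (Nat.succ i1)) List.nil) fun j => (pk61d (nat_lit 6) 
    (nat_lit 0x2281e6d64ce180) j)))) (nat_lit 0) (nat_lit 8) List.nil))) : ℕ × ℕ × List Cert)
    = ?xq9025 → (ℕ × ℕ × List Cert)) ?hq9025; (case hq9025 => (set_option maxRecDepth 1000000 in conv => lhs; reduce)); intro _; exact ?xq9025 : ℕ × ℕ × List Cert)

/-- certificates -/
noncomputable def c0_3_1 : ℕ × ℕ × List Cert :=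
  (by
  refine (?fq9026 : ((_root_.Prod.mk (nat_lit 3) (_root_.Prod.mk (nat_lit 13) (pk61l (fun i1 => (_root_.Cfsg.Agent.TAB.Eng.Cert.mk (pk61d (nat_lit 7) 
    (nat_lit 0x8ee5ba64a90f1d) i1) (pk61l (fun i2 => (pk61f (pk61d (nat_lit 4) 
    (nat_lit 0xfe70dc60ba5098407630542032101000) i2) fun u15 => (pk61f (pk61d (nat_lit 2) 
    (nat_lit 0xa4a4a4a4a4a4a4a4) i2) fun t2_5 => (pk61c (Nat.div t2_5 (nat_lit 1)) _root_.Cfsg.Agent.TAB.Eng.Op.one fun _ => (pk61c (Nat.div t2_5 (nat_lit 2)) (_root_.Cfsg.Agent.TAB.Eng.Op.gen (pk61d (nat_lit 3) 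
    (nat_lit 0x4000) u15) (nat_lit 1) (nat_lit 0)) fun _ => (_root_.Cfsg.Agent.TAB.Eng.Op.lin ((fun g2 : Nat → Nat => pk61l (fun i3 => (_root_.Prod.mk (pk61d (nat_lit 21) 
    (nat_lit 0xa22ef40df9e06fc2ac59840dfa9037e00000600001) (pk61d (nat_lit 3) 
    (nat_lit 0x148ac5221170a42e17) i3)) (pk61d (nat_lit 2) 
    (nat_lit 0x861861861861) i3))) (g2 u15) (g2 (Nat.succ u15)) List.nil) fun j => (pk61d (nat_lit 5) 
    (nat_lit 0x18bd6928bdcc5a50628c40) j)))))))) (Nat.mul (nat_lit 4) i1) (Nat.mul (nat_lit 4) (Nat.succ i1)) List.nil) (pk61l (fun i2 => (_root_.Prod.mk (pk61d (nat_lit 1) 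
    (nat_lit 0xaaaa) i2) (pk61d (nat_lit 2) 
    (nat_lit 0xdddddddd) i2))) (Nat.mul (nat_lit 2) i1) (Nat.mul (nat_lit 2) (Nat.succ i1)) List.nil))) (nat_lit 0) (nat_lit 8) List.nil))) : ℕ × ℕ × List Cert)
    = ?xq9026 → (ℕ × ℕ × List Cert)) ?hq9026; (case hq9026 => (set_option maxRecDepth 1000000 in conv => lhs; reduce)); intro _; exact ?xq9026 : ℕ × ℕ × List Cert)

/-- certificates -/
noncomputable def c0_5_0 : ℕ × ℕ × List Cert :=
  (by
  refine (?fq9027 : ((_root_.Prod.mk (nat_lit 5) (_root_.Prod.mk (nat_lit 2) (pk61l (fun i1 => (_root_.Cfsg.Agent.TAB.Eng.Cert.mk (pk61d (nat_lit 6) 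
    (nat_lit 0x356da6582c91c50c2040) i1) ((fun g1 : Nat → Nat => pk61l (fun i2 => (pk61f (pk61d (nat_lit 5) 
    (nat_lit 0xbd940ad1209c9008c0e07b8c06b0a05a8804a06039840280830804100000) i2) fun u15 => (pk61f (pk61d (nat_lit 2) 
    (nat_lit 0xa4a4a4a4a4a4a4a4a48a4a48) i2) fun t2_5 => (pk61c (Nat.div t2_5 (nat_lit 1)) _root_.Cfsg.Agent.TAB.Eng.Op.one fun _ => (pk61c (Nat.div t2_5 (nat_lit 2)) (_root_.Cfsg.Agent.TAB.Eng.Op.gen (pk61d (nat_lit 4) 
    (nat_lit 0xe00000000) u15) (nat_lit 1) (nat_lit 0)) fun _ => (_root_.Cfsg.Agent.TAB.Eng.Op.lin ((fun g2 : Nat → Nat => pk61l (fun i3 => (_root_.Prod.mk (pk61d (nat_lit 5) 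
    (nat_lit 0x5a50c4a109421184250c4819ac21c0625085af0cee1) i3) (pk61d (nat_lit 2) 
    (nat_lit 0x218618618618612184) i3))) (g2 u15) (g2 (Nat.succ u15)) List.nil) fun j => (pk61d (nat_lit 6) 
    (nat_lit 0x238a07dd71a6575944d140e34b2881c6103040) j)))))))) (g1 i1) (g1 (Nat.succ i1)) List.nil) fun j => (pk61d (nat_lit 6) 
    (nat_lit 0xc2ca2481c61440c286080) j)) ((fun g1 : Nat → Nat => pk61l (fun i2 => (_root_.Prod.mk (pk61d (nat_lit 1) 
    (nat_lit 0xaaaa94) i2) (pk61d (nat_lit 3) 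
    (nat_lit 0xa69a69a69a69a4d349) i2))) (g1 i1) (g1 (Nat.succ i1)) List.nil) fun j => (pk61d (nat_lit 5) 
    (nat_lit 0x316a4a0e6290628c20) j)))) (nat_lit 0) (nat_lit 13) List.nil))) : ℕ × ℕ × List Cert)
    = ?xq9027 → (ℕ × ℕ × List Cert)) ?hq9027; (case hq9027 => (set_option maxRecDepth 1000000 in conv => lhs; reduce)); intro _; exact ?xq9027 : ℕ × ℕ × List Cert)

/-- certificates -/
def c0_7_0 : ℕ × ℕ × List Cert := (7, 1, [⟨0, [.one, .lin [(1, 0)]], [(0, 1)]⟩,
⟨2, [.one, .lin [(1, 0)]], [(0, 1)]⟩,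
⟨3, [.one, .lin [(1, 0)]], [(0, 1)]⟩,
⟨7, [.one, .lin [(1, 0)]], [(0, 1)]⟩,
⟨11, [.one, .lin [(1, 0)]], [(0, 1)]⟩,
⟨12, [.one, .lin [(1, 0)]], [(0, 1)]⟩,
⟨26, [.one, .lin [(1, 0)]], [(0, 1)]⟩])

/-- certificates -/
def c0_11_0 : ℕ × ℕ × List Cert := (11, 1, [⟨0, [.one, .lin [(1, 0)]], [(0, 1)]⟩,
⟨2, [.one, .lin [(1, 0)]], [(0, 1)]⟩,
⟨3, [.one, .lin [(1, 0)]], [(0, 1)]⟩])

/-- certificates -/
def c0_13_0 : ℕ × ℕ × List Cert := (13, 1, [⟨0, [.one, .lin [(1, 0)]], [(0, 1)]⟩,
⟨3, [.one, .lin [(1, 0)]], [(0, 1)]⟩,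
⟨7, [.one, .lin [(1, 0)]], [(0, 1)]⟩])

/-- certificates -/
def c0_17_0 : ℕ × ℕ × List Cert := (17, 1, [⟨0, [.one, .lin [(1, 0)]], [(0, 1)]⟩])

/-- certificates -/
def c0_23_0 : ℕ × ℕ × List Cert := (23, 1, [⟨0, [.one, .lin [(1, 0)]], [(0, 1)]⟩])

/-- the certificates for the rows -/
noncomputable def CL0 : List (ℕ × ℕ × List Cert) := [c0_2_0, c0_2_1, c0_3_0, c0_3_1, c0_5_0, c0_7_0, c0_11_0, c0_13_0, c0_17_0, c0_23_0]

theorem ok_slp1 : Sm1.chkSlp D true slp1 [sd1, ones] = true := by decide +kernel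

theorem ok_c0_2_0 : chkP D c0_2_0.1 c0_2_0.2.1 (c0_2_0.1 ^ c0_2_0.2.1) seeds1 c0_2_0.2.2 rows = true := by decide +kernel

theorem ok_c0_2_1 : chkP D c0_2_1.1 c0_2_1.2.1 (c0_2_1.1 ^ c0_2_1.2.1) seeds1 c0_2_1.2.2 rows = true := by decide +kernel

theorem ok_c0_3_0 : chkP D c0_3_0.1 c0_3_0.2.1 (c0_3_0.1 ^ c0_3_0.2.1) seeds1 c0_3_0.2.2 rows = true := by decide +kernel

theorem ok_c0_3_1 : chkP D c0_3_1.1 c0_3_1.2.1 (c0_3_1.1 ^ c0_3_1.2.1) seeds1 c0_3_1.2.2 rows = true := by decide +kernel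

theorem ok_c0_5_0 : chkP D c0_5_0.1 c0_5_0.2.1 (c0_5_0.1 ^ c0_5_0.2.1) seeds1 c0_5_0.2.2 rows = true := by decide +kernel

theorem ok_c0_7_0 : chkP D c0_7_0.1 c0_7_0.2.1 (c0_7_0.1 ^ c0_7_0.2.1) seeds1 c0_7_0.2.2 rows = true := by decide +kernel

theorem ok_c0_11_0 : chkP D c0_11_0.1 c0_11_0.2.1 (c0_11_0.1 ^ c0_11_0.2.1) seeds1 c0_11_0.2.2 rows = true := by decide +kernel

theorem ok_c0_13_0 : chkP D c0_13_0.1 c0_13_0.2.1 (c0_13_0.1 ^ c0_13_0.2.1) seeds1 c0_13_0.2.2 rows = true := by decide +kernel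

theorem ok_c0_17_0 : chkP D c0_17_0.1 c0_17_0.2.1 (c0_17_0.1 ^ c0_17_0.2.1) seeds1 c0_17_0.2.2 rows = true := by decide +kernel

theorem ok_c0_23_0 : chkP D c0_23_0.1 c0_23_0.2.1 (c0_23_0.1 ^ c0_23_0.2.1) seeds1 c0_23_0.2.2 rows = true := by decide +kernel

theorem ok_CL0 : ∀ y ∈ CL0, chkP D y.1 y.2.1 (y.1 ^ y.2.1) seeds1 y.2.2 rows = true :=
  List.forall_mem_cons.2 ⟨ok_c0_2_0,
  List.forall_mem_cons.2 ⟨ok_c0_2_1,
  List.forall_mem_cons.2 ⟨ok_c0_3_0,
  List.forall_mem_cons.2 ⟨ok_c0_3_1,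
  List.forall_mem_cons.2 ⟨ok_c0_5_0,
  List.forall_mem_cons.2 ⟨ok_c0_7_0,
  List.forall_mem_cons.2 ⟨ok_c0_11_0,
  List.forall_mem_cons.2 ⟨ok_c0_13_0,
  List.forall_mem_cons.2 ⟨ok_c0_17_0,
  List.forall_mem_cons.2 ⟨ok_c0_23_0,
  List.forall_mem_nil _⟩⟩⟩⟩⟩⟩⟩⟩⟩⟩

theorem ones_eq : ∀ t < D.n, 1 = nth ones t := by decide +kernel

variable {G : Type} [Group G] {T : TD G D}

theorem Hyp.slp (h : Hyp T) : Sm1.Hyp T true := Sm1.Hyp.true h.1 h.2.1 cnt_pos

variable [Finite G]

theorem virt_seeds1 (h : Hyp T) : ∀ v ∈ seeds1, Virt T (nth v) :=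
  Sm1.virt_chkSlp h.slp slp1 (List.forall_mem_cons.2 ⟨h.2.2.1,
    List.forall_mem_singleton.2 ((Virt.const 1).congr ones_eq)⟩) ok_slp1

theorem good0 (h : Hyp T) (l s : ℕ) (hc : Co.hasC CL0 l s = true) : ∀ r ∈ rows, Eng.Good T l s (nth r) :=
  Co.good_of_certs h.1.1 (virt_seeds1 h) ok_CL0 hc

end Cfsg.Agent.TAB.F23
end

-- part: TAB/F23/G1
section
set_option linter.all false

/-!
# `Fi₂₃` : 69 rows are virtual (helper12, TAB; generated by `notes/TAB/F23/gen.py.txt`)
-/

set_option autoImplicit false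
set_option maxRecDepth 100000

namespace Cfsg.Agent.TAB.F23

open Cfsg Cfsg.Agent.TAB.Eng Cfsg.Agent.TAB.Use Cfsg.Agent.TAB.Glue

/-- the levels -/
def lv1 : List Lv := [⟨0, 2, 1, [], true⟩, ⟨49, 2, 6, [], true⟩, ⟨50, 2, 1, [5], true⟩, ⟨55, 2, 1, [1], true⟩,
    ⟨56, 2, 1, [1], true⟩, ⟨67, 2, 3, [0], true⟩, ⟨68, 2, 1, [2, 0], true⟩, ⟨78, 2, 6, [0, 0], true⟩, ⟨53, 2, 1,
    [3, 2, 2], true⟩, ⟨91, 1, 1, [2, 2, 2], true⟩, ⟨20, 2, 72, [0, 0, 0], true⟩, ⟨23, 2, 1, [69, 3, 1, 0],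
    true⟩, ⟨24, 2, 1, [55, 3, 2, 3], true⟩, ⟨75, 2, 1, [2, 4, 2, 2], true⟩, ⟨88, 1, 1, [20, 2, 1, 4], true⟩,
    ⟨89, 1, 1, [20, 2, 1, 0], true⟩, ⟨90, 1, 1, [20, 4, 1, 4], true⟩, ⟨15, 2, 2, [36, 0, 1, 4], true⟩, ⟨21, 2,
    1, [1, 70, 0, 2, 2], true⟩, ⟨45, 2, 1, [1, 38, 2, 2, 5], true⟩, ⟨69, 2, 1, [1, 70, 0, 2, 2], true⟩, ⟨76, 2,
    1, [1, 38, 2, 2, 5], true⟩, ⟨77, 2, 1, [1, 36, 2, 0, 0], true⟩, ⟨3, 2, 6, [0, 18, 0, 0, 0], true⟩, ⟨2, 2, 1,
    [2, 1, 31, 2, 0, 0], true⟩, ⟨6, 2, 1, [4, 0, 17, 4, 1, 5], true⟩, ⟨10, 2, 1, [3, 0, 57, 4, 0, 0], true⟩,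
    ⟨18, 2, 1, [5, 1, 11, 5, 1, 3], true⟩, ⟨19, 2, 1, [3, 0, 30, 3, 0, 3], true⟩, ⟨26, 2, 1, [2, 1, 49, 3, 2,
    5], true⟩, ⟨39, 2, 1, [2, 0, 63, 5, 2, 0], true⟩, ⟨43, 2, 1, [1, 1, 25, 2, 1, 2], true⟩, ⟨44, 2, 1, [3, 1,
    49, 5, 1, 0], true⟩, ⟨54, 2, 1, [3, 0, 0, 3, 0, 3], true⟩, ⟨65, 2, 1, [3, 1, 54, 3, 2, 2], true⟩, ⟨86, 1, 1,
    [2, 0, 56, 2, 0, 0], true⟩, ⟨1, 2, 2, [2, 0, 22, 0, 1, 0], true⟩, ⟨5, 2, 1, [1, 0, 0, 0, 0, 0, 0], true⟩,
    ⟨12, 2, 1, [1, 4, 0, 45, 5, 0, 3], true⟩, ⟨17, 2, 1, [1, 5, 0, 45, 2, 1, 3], true⟩, ⟨25, 2, 1, [1, 5, 1, 8,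
    1, 0, 2], true⟩, ⟨35, 2, 1, [1, 1, 0, 28, 0, 1, 3], true⟩, ⟨36, 2, 1, [1, 5, 1, 61, 1, 1, 3], true⟩, ⟨48, 2,
    1, [1, 0, 0, 17, 5, 0, 0], true⟩, ⟨51, 2, 1, [1, 5, 0, 24, 5, 2, 5], true⟩, ⟨62, 2, 1, [1, 2, 1, 38, 4, 0,
    5], true⟩, ⟨73, 2, 1, [1, 2, 0, 3, 2, 2, 3], true⟩, ⟨83, 2, 1, [1, 1, 0, 32, 3, 2, 3], true⟩, ⟨84, 2, 1, [1,
    5, 0, 48, 5, 1, 3], true⟩, ⟨85, 2, 1, [1, 2, 1, 50, 4, 0, 5], true⟩, ⟨4, 2, 2, [0, 0, 0, 20, 0, 2, 0],
    true⟩, ⟨9, 2, 1, [1, 0, 1, 0, 47, 2, 2, 0], true⟩, ⟨13, 2, 1, [1, 1, 2, 1, 71, 3, 1, 2], true⟩, ⟨16, 2, 1,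
    [1, 1, 0, 0, 20, 3, 1, 3], true⟩, ⟨28, 2, 1, [1, 0, 0, 1, 61, 3, 0, 2], true⟩, ⟨31, 2, 1, [1, 1, 5, 1, 66,
    3, 1, 3], true⟩, ⟨40, 2, 1, [1, 1, 2, 0, 57, 1, 0, 3], true⟩, ⟨46, 2, 1, [1, 1, 3, 0, 1, 5, 0, 0], true⟩,
    ⟨52, 2, 1, [1, 1, 5, 1, 8, 0, 0, 3], true⟩, ⟨61, 2, 1, [1, 1, 4, 0, 56, 2, 1, 3], true⟩, ⟨63, 2, 1, [1, 0,
    2, 0, 36, 5, 1, 1], true⟩, ⟨64, 2, 1, [1, 1, 4, 1, 9, 3, 2, 2], true⟩, ⟨70, 2, 1, [1, 0, 0, 0, 19, 3, 1, 3],
    true⟩, ⟨72, 2, 1, [1, 1, 4, 0, 69, 2, 1, 2], true⟩, ⟨79, 2, 1, [1, 1, 1, 1, 1, 5, 2, 0], true⟩, ⟨80, 2, 1,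
    [1, 1, 1, 1, 0, 3, 2, 5], true⟩, ⟨81, 2, 1, [1, 1, 1, 0, 57, 0, 0, 0], true⟩, ⟨7, 2, 16, [0, 0, 2, 0, 38, 4,
    2, 4], false⟩, ⟨11, 2, 1, [15, 0, 1, 5, 1, 59, 4, 2, 4], false⟩, ⟨29, 2, 1, [15, 0, 0, 4, 0, 35, 3, 2, 3],
    false⟩, ⟨32, 2, 1, [15, 1, 0, 0, 1, 12, 2, 2, 5], false⟩, ⟨59, 2, 1, [1, 1, 1, 4, 1, 35, 5, 0, 3], false⟩,
    ⟨60, 2, 1, [1, 1, 0, 5, 1, 63, 4, 2, 0], false⟩, ⟨66, 2, 1, [15, 1, 1, 4, 1, 14, 2, 1, 5], false⟩, ⟨82, 2,
    1, [15, 0, 1, 4, 1, 14, 0, 1, 2], false⟩, ⟨87, 1, 1, [2, 0, 0, 2, 0, 30, 2, 2, 2], false⟩, ⟨8, 2, 2, [2, 0,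
    0, 0, 0, 8, 4, 2, 4], false⟩, ⟨14, 2, 1, [1, 2, 1, 0, 2, 1, 3, 2, 0, 1], false⟩, ⟨22, 2, 1, [1, 1, 1, 0, 3,
    1, 69, 3, 1, 4], true⟩, ⟨27, 2, 1, [1, 1, 0, 0, 3, 0, 51, 4, 0, 4], true⟩, ⟨30, 2, 1, [1, 0, 1, 0, 2, 0, 61,
    0, 2, 1], false⟩, ⟨47, 2, 1, [1, 2, 0, 0, 0, 1, 10, 2, 1, 0], false⟩, ⟨57, 2, 1, [1, 2, 1, 0, 5, 1, 26, 1,
    2, 5], false⟩, ⟨58, 2, 1, [1, 2, 1, 0, 3, 1, 26, 1, 2, 1], false⟩, ⟨33, 2, 4, [0, 8, 0, 0, 0, 0, 8, 2, 1,
    4], false⟩, ⟨34, 2, 1, [1, 1, 1, 0, 0, 5, 0, 41, 2, 2, 0], false⟩, ⟨37, 2, 1, [1, 1, 1, 1, 0, 5, 0, 47, 4,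
    0, 5], false⟩, ⟨38, 2, 1, [1, 1, 1, 0, 0, 1, 1, 35, 5, 2, 0], false⟩, ⟨41, 2, 1, [3, 0, 8, 0, 0, 2, 1, 18,
    5, 1, 1], false⟩, ⟨42, 2, 1, [3, 0, 8, 0, 0, 4, 1, 12, 1, 2, 1], false⟩, ⟨71, 2, 1, [3, 0, 8, 1, 0, 4, 1,
    50, 5, 1, 4], false⟩, ⟨74, 2, 1, [1, 1, 1, 0, 0, 3, 0, 53, 2, 0, 3], false⟩]

/-- certificates -/
def c1_2_0 : ℕ × ℕ × List Cert := (2, 18, [⟨0, [.gen 0 1 0, .mul 0 0, .mul 1 0, .gen 3 1 0, .mul 3 0, .mul 4 0,
    .gen 4 1 0, .mul 6 0, .mul 1 1, .gen 8 1 0, .gen 9 1 0, .gen 11 1 0, .gen 12 1 0, .gen 17 1 0, .lin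
    [(253619, 11), (9319, 9), (10380, 8), (99788, 7), (223702, 6), (64456, 5), (110225, 4), (126037, 3),
    (159588, 2), (137198, 1)], .lin [(195323, 10), (79605, 9), (224252, 8), (77848, 7), (261700, 6), (67220, 5),
    (132666, 4), (6444, 3), (148968, 2)], .lin [(258479, 10), (90569, 9), (161834, 8), (38911, 7), (82011, 6),
    (119559, 5), (201093, 4), (212014, 3)], .lin [(101557, 10), (101458, 9), (39375, 8), (226595, 7), (240526,
    6), (261637, 5), (55810, 4)], .lin [(103508, 10), (125393, 9), (69527, 8), (72642, 7), (209255, 6), (16605,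
    5)], .lin [(30105, 11), (9016, 9), (12503, 8), (18271, 7), (204752, 6)], .lin [(12747, 10), (143819, 8),
    (105578, 7)], .lin [(185688, 10), (218464, 9), (43680, 8), (173397, 7)], .lin [(174763, 11), (174764, 10),
    (87380, 9)], .lin [(218453, 11), (43691, 10)], .lin [(1, 11)]], [(11, 1), (8, 2), (9, 8), (10, 64), (5, 8),
    (7, 64), (4, 16), (6, 64), (0, 128), (1, 4096), (2, 2048)]⟩,
⟨4, [.one, .gen 0 1 0, .mul 0 0, .gen 4 1 0, .mul 2 0, .gen 9 1 0, .gen 0 1 1, .lin [(32769, 6), (218452, 5),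
    (10923, 4), (84577, 3), (112031, 2)], .lin [(226370, 7), (198612, 6), (63697, 4), (105252, 2), (99306, 1)],
    .lin [(131071, 8), (218454, 7), (56419, 3), (174763, 2)], .lin [(57307, 4)], .lin [(262143, 10), (1, 9)],
    .lin [(1, 11)]], [(4, 1), (5, 2), (0, 4), (1, 4), (2, 8), (3, 16)]⟩,
⟨6, [.one, .gen 0 1 0, .gen 4 1 0, .mul 1 0, .gen 8 1 0, .mul 3 0, .gen 9 1 0, .gen 10 1 0, .mul 6 0, .mul 1 1,
    .gen 12 1 0, .gen 15 1 0, .gen 0 3 0, .gen 0 1 1, .lin [(7206, 10), (260779, 8), (81816, 7), (155444, 5),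
    (61474, 4), (41600, 2)], .lin [(260757, 8), (63692, 6), (207838, 5), (44726, 3)], .lin [(201394, 15),
    (189858, 14), (62224, 13), (247519, 11), (258094, 8), (197958, 5), (125148, 4), (145922, 3), (204708, 2)],
    .lin [(250262, 14), (17823, 5)], .lin [(84145, 15)], .lin [(189326, 17), (111654, 14), (192239, 11), (8738,
    8), (81556, 6), (8738, 5)], .lin [(50973, 18), (245153, 15), (109227, 9), (189326, 7), (109227, 6)], .lin
    [(144179, 20), (134276, 10), (154665, 8), (89129, 7)], .lin [(233017, 11)], .lin [(104858, 10), (235929,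
    9)], .lin [(174763, 11)]], [(10, 1), (5, 4), (8, 8), (9, 4), (6, 4), (7, 8), (1, 32), (3, 64), (2, 16), (0,
    64), (4, 1024)]⟩,
⟨7, [.one, .gen 3 1 0, .mul 0 0, .gen 9 1 0, .gen 14 1 0, .mul 3 0, .mul 2 1, .mul 2 2, .mul 3 0, .gen 6 1 0,
    .gen 0 3 0, .gen 3 1 1, .lin [(168482, 11), (230965, 10), (91295, 9), (183695, 8), (160722, 7), (16997, 6),
    (183759, 5), (251614, 4), (205614, 3)], .lin [(42657, 12), (69324, 11), (233522, 9), (160033, 8), (139350,
    7), (169419, 5), (157375, 4), (256948, 3)], .lin [(56436, 13), (243007, 12), (215745, 10), (98480, 9),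
    (101796, 6), (95588, 4), (99468, 3)], .lin [(68347, 14), (147456, 13), (4724, 10), (249935, 7), (38623, 5),
    (23237, 4)], .lin [(185662, 15), (5461, 14), (131096, 11), (16381, 8), (191149, 6)], .lin [(233017, 15)],
    .lin [(1, 17), (37448, 13), (224695, 10)], .lin [(87381, 18), (174763, 14)], .lin [(131084, 19), (54613,
    8)], .lin [(1, 20)]], [(8, 1), (9, 8), (6, 2), (7, 16), (4, 8), (5, 16), (0, 8), (1, 64), (2, 64), (3,
    512)]⟩,
⟨33, [.one, .gen 0 1 0, .gen 10 1 0, .gen 0 3 0, .lin [(78761, 2), (36219, 1), (7473, 0)], .lin [(79783, 2)],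
    .lin [(4, 5), (196607, 4)], .lin [(1, 6)]], [(2, 1), (3, 4), (0, 2), (1, 8)]⟩,
⟨34, [.one, .gen 10 1 0, .lin [(4, 1), (234057, 0)], .lin [(1, 2)]], [(0, 1), (1, 4)]⟩])

/-- certificates -/
def c1_3_0 : ℕ × ℕ × List Cert := (3, 13, [⟨0, [.one, .gen 0 1 0, .mul 0 0, .mul 1 0, .gen 3 1 0, .mul 3 0, .gen
    9 1 0, .gen 10 1 0, .mul 6 0, .gen 12 1 0, .gen 13 1 0, .gen 22 1 0, .lin [(1496961, 11), (1446329, 10),
    (1106486, 9), (429991, 8), (1488057, 7), (1542207, 6), (396996, 5), (405957, 4), (75868, 3), (1257237, 2),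
    (1077963, 1), (631557, 0)], .lin [(718011, 12), (617328, 11), (1545934, 10), (1208156, 8), (1230842, 6),
    (1338613, 5), (525387, 3), (1425809, 2), (957987, 1)], .lin [(518094, 13), (1152825, 12), (251596, 11),
    (1159511, 9), (866726, 7), (1234179, 6), (1499838, 4), (1054107, 2)], .lin [(149457, 14), (1079892, 13),
    (117288, 12), (428547, 10), (393243, 7), (162892, 5), (855585, 3)], .lin [(409009, 15), (745605, 14),
    (299106, 13), (1514998, 11), (1295015, 8), (1499655, 4)], .lin [(1594322, 16), (387821, 15), (380816, 14),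
    (414594, 12), (1, 9)], .lin [(1276559, 16), (68557, 15), (426604, 13)], .lin [(797157, 18), (265722, 17),
    (398581, 7)], .lin [(1, 18)], .lin [(1, 20)]], [(10, 1), (5, 3), (6, 9), (7, 27), (8, 27), (9, 27), (1, 81),
    (2, 243), (4, 729), (0, 2187)]⟩,
⟨1, [.one, .gen 0 1 0, .mul 0 0, .mul 1 0, .mul 2 0, .gen 9 1 0, .mul 4 0, .mul 5 0, .mul 2 2, .gen 10 1 0, .mul
    8 0, .mul 9 0, .mul 2 2, .gen 16 1 0, .gen 0 1 1, .lin [(1530927, 13), (796083, 12), (338704, 11), (667045,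
    10), (896445, 9), (67104, 8), (1069690, 7), (1138014, 6), (1378869, 4), (1287898, 3)], .lin [(229545, 15),
    (436614, 14), (324580, 13), (222746, 12), (603399, 10), (1282471, 9), (901365, 6), (166245, 5), (646934, 3),
    (1138356, 1)], .lin [(572373, 15), (158955, 14), (119614, 13), (46062, 11), (67788, 10), (694584, 7),
    (569871, 6), (947118, 4)], .lin [(998796, 16), (963425, 15), (99322, 14), (283884, 12), (1480919, 11),
    (1231725, 8), (1259889, 7), (60433, 5), (82115, 4)], .lin [(1336608, 17), (350736, 16), (502213, 15),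
    (1484718, 13), (1247336, 12), (575283, 8)], .lin [(819305, 14), (215898, 10), (603407, 9), (495458, 7)],
    .lin [(1345210, 15), (921718, 10)], .lin [(200544, 21), (1443915, 20), (1142264, 16), (1544187, 7)], .lin
    [(251735, 22), (1006941, 21), (335647, 8)], .lin [(797162, 14)], .lin [(3, 24), (1062881, 23)], .lin [(1,
    25)]], [(9, 1), (10, 3), (11, 3), (1, 3), (3, 9), (5, 9), (6, 9), (0, 27), (2, 27), (4, 81), (7, 27), (8,
    243)]⟩,
⟨10, [.one, .gen 0 1 0, .mul 0 0, .gen 3 1 0, .mul 0 0, .gen 19 1 0, .gen 20 1 0, .gen 0 2 0, .mul 0 0, .lin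
    [(1527912, 7), (221433, 6), (116220, 5), (969466, 4), (280248, 3), (1361817, 2), (199287, 1)], .lin
    [(100179, 8), (52861, 3), (313431, 2), (502124, 1)], .lin [(66432, 9), (741803, 4), (1262172, 3)], .lin
    [(398582, 10), (664301, 4)], .lin [(460859, 7)], .lin [(531442, 12), (66430, 10)], .lin [(3, 14), (1062881,
    13)], .lin [(1, 15)]], [(3, 1), (7, 3), (1, 3), (2, 9), (4, 3), (5, 9), (0, 9), (6, 81)]⟩])

/-- the certificates for the relations -/
def CL1 : List (ℕ × ℕ × List Cert) := [c1_2_0, c1_3_0]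

theorem ok_c1_2_0 : chkX D seeds1 rows (rels lv1 []) c1_2_0 = true := by decide +kernel

theorem ok_c1_3_0 : chkX D seeds1 rows (rels lv1 []) c1_3_0 = true := by decide +kernel

theorem ok_CL1 : ∀ y ∈ CL1, chkX D seeds1 rows (rels lv1 []) y = true :=
  List.forall_mem_cons.2 ⟨ok_c1_2_0, List.forall_mem_cons.2 ⟨ok_c1_3_0, List.forall_mem_nil _⟩⟩

theorem ok_all1 : (PL.all fun x => x.2.2.all fun t => Co.hasC CL0 x.1 t || Co.hasC CL1 x.1 t) = true := by
  decide +kernel

theorem ok_lv1 : okG D rows nm lv1 2 2 false = true := by decide +kernel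

variable {G : Type} [Group G] [Finite G] {T : TD G D}

theorem virt_lv1 (h : Hyp T) : ∀ l ∈ lv1, l.tg = true → Virt T (nth (ntd rows [] l.j)) :=
  glue h.1 orth ok_lv1 (virt_combs h.1.1 okPL (good0 h) (virt_seeds1 h) ok_CL1 ok_all1)

end Cfsg.Agent.TAB.F23
end
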